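import Cfsg.Agent.Omega.IId.SymWrD.RankT
import Cfsg.Agent.Omega.IId.SymWrD.LThm

/-!
# II.d, `SwBig`, `SwCv`: (T) of THEOREM L (bb OMEGA #17498), `D` arbitrary, all `m ≥ 2`

`tt` : `TT h F x`.
-/

set_option autoImplicit false

namespace Cfsg.Agent.Omega.IId.SymWrD

open Subgroup Pointwise Cfsg Cfsg.Agent.ZN Cfsg.Agent.Omega.MinPar Cfsg.Agent.Omega.FFThm
open Cfsg.Agent.Omega.Half.SymA (Pt E Mv pm Amb0)

universe u

variable {G : Type u} [Group G] {P V : Subgroup G} {k m : ℕ}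

theorem E_pr_iff {S : Subgroup G} (M : SymK S P V ⊥ k m) {p q : Pt k m} (h : p.1 = q.1) (hne : p ≠ q) (r : Pt k m) :
    E M (pr M p q) r = 1 ↔ r = p ∨ r = q := by
  constructor
  · intro h1
    by_contra h2
    rw [not_or] at h2
    rw [E_pr_of_ne M h h2.1 h2.2] at h1
    exact zero_ne_one h1
  · rintro (rfl | rfl)
    · exact E_pr_left M h hne
    · exact E_pr_right M h hne

/-- **(T)** -/
theorem tt [Finite G] {S : Sylow 2 G} {M : SymK (S : Subgroup G) P V ⊥ k m} {μ ν : Equiv.Perm (Pt k m)}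
    (h : Sit S P V M) (F : Fours M μ ν) {x : Pt k m} (hx : x.2 ≠ 0) : TT h F x := by
  have hn := pr_mem M x (μ x)
  have hnE := E_pr_iff M (F.mfst x).symm (F.mne x hx).symm
  refine ⟨fun g hg a b ha hb hab ha1 ha2 hb1 hb2 hgq => ?_, fun g hg hgP => ?_⟩
  · exact T_mem h F hx hn hnE (pr_mem M a b) hab ha hb ha1 ha2 hb1 hb2 (E_pr_iff M (ha.trans hb.symm) hab) hg hgq
  · exact T_two h F hx hn hnE hg hgP

end Cfsg.Agent.Omega.IId.SymWrD
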