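import Cfsg.Agent.Omega.IId.SymWrD.Pts
import Cfsg.Agent.Omega.IId.SymWr.Base

/-!
# II.d, `SwBig`, `SwCv` (copy of `SymWr/Base.lean` for `D` arbitrary): the interface for THEOREM L (bb OMEGA #17498, helper142)

`M : SymK S P V ⊥ k m`: `V` is the sum of `k` even-subset modules of degree `2 ^ m + 1`.

* `pp M g` : the permutation of the points induced by `g ∈ P` (`pp_mul`, `pp_inv`, `pp_fst`, `pp_snd`, `exists_pp`);
* `Sit S P V M` : the situation (`V ≤ Ω₁Z(O₂(P))`, `O₂(P) = C_S(V)`, `C_G(O₂(P)) ≤ O₂(P)`);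
* `Sit.induced` : a 2-group of permutations of the points inside the summands which is normalised by `S` is induced
  by `S`.
-/

set_option autoImplicit false

namespace Cfsg.Agent.Omega.IId.SymWrD

open Subgroup Pointwise Cfsg Cfsg.Agent.ZN Cfsg.Agent.Omega.MinPar Cfsg.Agent.Omega.FFThm
open Cfsg.Agent.Omega.Half (Amb amb_of_loc)
open Cfsg.Agent.Omega.Half.SymA (Pt E Mv pm Amb0)
open Cfsg.Agent.MinSimple.VModule (mem_zc zc_le zc_comm zc_sq zc_le_zl le_normalizer_o2 o2_isPGroup o2_le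
  normalizer_le_normalizer_zc le_normalizer_zl)

universe u

variable {G : Type u} [Group G] {T P V : Subgroup G} {k m : ℕ}

section pp

variable (M : SymK T P V ⊥ k m)

open scoped Classical in
/-- the permutation of the points induced by `g` -/
noncomputable def pp (g : G) : Equiv.Perm (Pt k m) := if h : ∃ π, Mv M g π then h.choose else 1

variable {M}

theorem mv_pp {g : G} (hg : g ∈ P) : Mv M g (pp M g) := by
  obtain ⟨π, hπ, -⟩ := Half.SymA.exists_mv (M := M) hg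
  have h : ∃ π, Mv M g π := ⟨π, hπ⟩
  rw [pp, dif_pos h]
  exact h.choose_spec

/-- the characteristic function of a conjugate -/
theorem E_conj {g : G} (hg : g ∈ P) {v : G} (hv : v ∈ V) (p : Pt k m) :
    E M (g * v * g⁻¹) (pp M g p) = E M v p := mv_pp hg v hv p

section amb

variable (hA : Amb0 T P V) (hm : 1 ≤ m)

include hA hm

theorem pp_eq {g : G} (hg : g ∈ P) {π : Equiv.Perm (Pt k m)} (hπ : Mv M g π) : pp M g = π :=
  (mv_pp hg).unique0 hA hm hπ hg

theorem pp_one : pp M 1 = 1 := pp_eq hA hm (one_mem P) (Half.SymA.Mv_one M)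

theorem pp_mul {g h : G} (hg : g ∈ P) (hh : h ∈ P) : pp M (g * h) = pp M g * pp M h :=
  pp_eq hA hm (mul_mem hg hh) ((mv_pp hg).mul0 hA (mv_pp hh) hh)

theorem pp_inv {g : G} (hg : g ∈ P) : pp M g⁻¹ = (pp M g)⁻¹ :=
  pp_eq hA hm (inv_mem hg) ((mv_pp hg).inv0 hA hg)

theorem pp_conj {g h : G} (hg : g ∈ P) (hh : h ∈ P) : pp M (g * h * g⁻¹) = pp M g * pp M h * (pp M g)⁻¹ := by
  rw [pp_mul hA hm (mul_mem hg hh) (inv_mem hg), pp_mul hA hm hg hh, pp_inv hA hm hg]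

theorem pp_fst {g : G} (hg : g ∈ P) {p q : Pt k m} (hpq : p.1 = q.1) : (pp M g p).1 = (pp M g q).1 :=
  (mv_pp hg).fst0 hA hm hg hpq

theorem pp_fst_iff {g : G} (hg : g ∈ P) {p q : Pt k m} : (pp M g p).1 = (pp M g q).1 ↔ p.1 = q.1 := by
  refine ⟨fun h => ?_, pp_fst hA hm hg⟩
  have h1 := pp_fst hA hm (M := M) (inv_mem hg) h
  rw [pp_inv hA hm hg] at h1
  have h2 : ∀ r, (pp M g)⁻¹ (pp M g r) = r := fun r => (pp M g).symm_apply_apply r
  rwa [h2, h2] at h1

theorem pp_snd {t : G} (ht : t ∈ T) {p : Pt k m} : (pp M t p).2 = 0 ↔ p.2 = 0 :=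
  (mv_pp (hA.TH ht)).snd0 hA hm ht

omit hA hm in
theorem E_conj' {g : G} (hg : g ∈ P) {v : G} (hv : v ∈ V) (p : Pt k m) :
    E M (g * v * g⁻¹) p = E M v ((pp M g)⁻¹ p) := by
  have h := E_conj (M := M) hg hv ((pp M g)⁻¹ p)
  rwa [show pp M g ((pp M g)⁻¹ p) = p from (pp M g).apply_symm_apply p] at h

/-- the kernel of the action -/
theorem pp_eq_one_iff {g : G} (hg : g ∈ P) : pp M g = 1 ↔ g ∈ centralizer (V : Set G) := by
  constructor
  · intro h
    rw [mem_centralizer_iff]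
    intro v hv
    have h1 : g * v * g⁻¹ = v := by
      refine Half.SymA.inj M (hA.conj_mem hg hv) hv fun p => ?_
      have := E_conj (M := M) hg hv p
      rwa [h] at this
    rw [mul_inv_eq_iff_eq_mul] at h1
    exact h1.symm
  · intro h
    refine pp_eq hA hm hg fun v hv p => ?_
    rw [mem_centralizer_iff] at h
    have h1 : g * v * g⁻¹ = v := by rw [← h v hv, mul_inv_cancel_right]
    rw [h1]
    rfl

theorem pp_eq_iff {g h : G} (hg : g ∈ P) (hh : h ∈ P) : pp M g = pp M h ↔ g⁻¹ * h ∈ centralizer (V : Set G) := by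
  rw [← pp_eq_one_iff hA hm (M := M) (mul_mem (inv_mem hg) hh), pp_mul hA hm (inv_mem hg) hh, pp_inv hA hm hg,
    inv_mul_eq_one]

end amb

/-- every permutation inside the summands is induced by an element of `P` -/
theorem exists_mv_of_fst (M : SymK T P V ⊥ k m) {π : Equiv.Perm (Pt k m)} (h : ∀ p, (π p).1 = p.1) :
    ∃ g ∈ P, Mv M g π := by
  have hsymm : ∀ p, (π.symm p).1 = p.1 := fun p => by
    have := h (π.symm p)
    rw [π.apply_symm_apply] at this
    exact this.symm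
  let τ : Fin k → Equiv.Perm (Fin (2 ^ m + 1)) := fun i =>
    { toFun := fun x => (π (i, x)).2
      invFun := fun x => (π.symm (i, x)).2
      left_inv := fun x => by
        have h1 : ((i, (π (i, x)).2) : Pt k m) = π (i, x) := Prod.ext (h (i, x)).symm rfl
        simp only [h1, π.symm_apply_apply]
      right_inv := fun x => by
        have h1 : ((i, (π.symm (i, x)).2) : Pt k m) = π.symm (i, x) := Prod.ext (hsymm (i, x)).symm rfl
        simp only [h1, π.apply_symm_apply] }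
  obtain ⟨g, hg, h1, -⟩ := M.lift τ
  refine ⟨g, hg, ?_⟩
  have h2 := Half.SymA.mv_pm M h1
  have h3 : pm 1 τ = π := by
    ext1 p
    exact Prod.ext (h p).symm rfl
  rwa [h3] at h2

theorem exists_pp (hA : Amb0 T P V) (hm : 1 ≤ m) (M : SymK T P V ⊥ k m) {π : Equiv.Perm (Pt k m)}
    (h : ∀ p, (π p).1 = p.1) : ∃ g ∈ P, pp M g = π := by
  obtain ⟨g, hg, h1⟩ := exists_mv_of_fst M h
  exact ⟨g, hg, pp_eq hA hm hg h1⟩

/-- the action as a homomorphism -/
noncomputable def hom (hA : Amb0 T P V) (hm : 1 ≤ m) (M : SymK T P V ⊥ k m) : P →* Equiv.Perm (Pt k m) where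
  toFun g := pp M g
  map_one' := pp_one hA hm
  map_mul' a b := pp_mul hA hm a.2 b.2

theorem hom_apply (hA : Amb0 T P V) (hm : 1 ≤ m) (M : SymK T P V ⊥ k m) (g : P) : hom hA hm M g = pp M g := rfl

end pp

/-- **The situation.** -/
structure Sit (S : Sylow 2 G) (P V : Subgroup G) {k m : ℕ} (M : SymK (S : Subgroup G) P V ⊥ k m) : Prop where
  amb : Amb0 (S : Subgroup G) P V
  hm : 2 ≤ m
  hk : 0 < k
  VZ : V ≤ zc (o2 P)
  Q_eq : o2 P = (S : Subgroup G) ⊓ centralizer (V : Set G)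
  cQ : centralizer (o2 P : Set G) ≤ o2 P
  cZ : P ⊓ centralizer (V : Set G) ≤ centralizer (zc (o2 P) : Set G)

/-- the case `D = 1` -/
theorem Sit.of_sit {S : Sylow 2 G} {M : SymK (S : Subgroup G) P V ⊥ k m} (h : SymWr.Sit S P V M) : Sit S P V M :=
  ⟨h.amb.to0, h.hm, h.hk, h.VZ, h.Q_eq, h.cQ, h.cZ⟩

/-- **The situation, `D` arbitrary**: `V_P = V × D`, `D` is centralised by `P`. -/
structure SitD (S : Sylow 2 G) (P V D : Subgroup G) {k m : ℕ} (M : SymK (S : Subgroup G) P V ⊥ k m) : Prop extends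
    Sit S P V M where
  DZ : D ≤ zc (o2 P)
  cenD : ∀ g ∈ P, ∀ d ∈ D, g * d = d * g
  disj : V ⊓ D = ⊥
  zcVD : zc (S : Subgroup G) ≤ V ⊔ D

/-- the case `D = 1` -/
theorem SitD.of_sit {S : Sylow 2 G} {M : SymK (S : Subgroup G) P V ⊥ k m} (h : SymWr.Sit S P V M) :
    SitD S P V ⊥ M where
  toSit := Sit.of_sit h
  DZ := bot_le
  cenD := fun g _ d hd => by rw [mem_bot.1 hd, mul_one, one_mul]
  disj := inf_bot_eq V
  zcVD := h.amb.zc.trans le_sup_left

namespace Sit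

variable {S : Sylow 2 G} {M : SymK (S : Subgroup G) P V ⊥ k m} (h : Sit S P V M)

include h

theorem hm1 : 1 ≤ m := (by norm_num : 1 ≤ 2).trans h.hm

theorem SP : (S : Subgroup G) ≤ P := h.amb.TH

theorem VS : V ≤ (S : Subgroup G) := h.amb.VT

theorem QS : o2 P ≤ (S : Subgroup G) := h.Q_eq.le.trans inf_le_left

theorem mul {g h' : G} (hg : g ∈ P) (hh : h' ∈ P) : pp M (g * h') = pp M g * pp M h' := pp_mul h.amb h.hm1 hg hh

theorem inv {g : G} (hg : g ∈ P) : pp M g⁻¹ = (pp M g)⁻¹ := pp_inv h.amb h.hm1 hg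

theorem one : pp M 1 = 1 := pp_one h.amb h.hm1

theorem conj {g h' : G} (hg : g ∈ P) (hh : h' ∈ P) : pp M (g * h' * g⁻¹) = pp M g * pp M h' * (pp M g)⁻¹ :=
  pp_conj h.amb h.hm1 hg hh

theorem fst {g : G} (hg : g ∈ P) {p q : Pt k m} (hpq : p.1 = q.1) : (pp M g p).1 = (pp M g q).1 :=
  pp_fst h.amb h.hm1 hg hpq

theorem snd {t : G} (ht : t ∈ (S : Subgroup G)) {p : Pt k m} : (pp M t p).2 = 0 ↔ p.2 = 0 :=
  pp_snd h.amb h.hm1 ht

theorem eq_one_iff {g : G} (hg : g ∈ P) : pp M g = 1 ↔ g ∈ centralizer (V : Set G) := pp_eq_one_iff h.amb h.hm1 hg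

theorem mem_Q_iff {s : G} (hs : s ∈ (S : Subgroup G)) : s ∈ o2 P ↔ pp M s = 1 := by
  rw [h.Q_eq, mem_inf, h.eq_one_iff (h.SP hs)]
  exact ⟨fun h1 => h1.2, fun h1 => ⟨hs, h1⟩⟩

theorem exists_pp {π : Equiv.Perm (Pt k m)} (hπ : ∀ p, (π p).1 = p.1) : ∃ g ∈ P, pp M g = π :=
  SymWrD.exists_pp h.amb h.hm1 M hπ

variable [Finite G]

theorem trans {p q : Pt k m} (hp : p.2 ≠ 0) (hq : q.2 ≠ 0) : ∃ s ∈ (S : Subgroup G), pp M s p = q := by
  obtain ⟨t, ht, π, hπ, h1⟩ := Half.SymA.trans_pts0 S h.amb h.hm1 (M := M) hp hq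
  exact ⟨t, ht, by rw [pp_eq h.amb h.hm1 (h.SP ht) hπ, h1]⟩

/-- the image of `S` in the permutations of the points -/
theorem induced {D : Subgroup (Equiv.Perm (Pt k m))} (hD : IsPGroup 2 D)
    (hfst : ∀ δ ∈ D, ∀ p, (δ p).1 = p.1)
    (hn : ∀ s ∈ (S : Subgroup G), ∀ δ ∈ D, pp M s * δ * (pp M s)⁻¹ ∈ D) {δ : Equiv.Perm (Pt k m)} (hδ : δ ∈ D) :
    ∃ s ∈ (S : Subgroup G), pp M s = δ := by
  have : Fact (Nat.Prime 2) := ⟨Nat.prime_two⟩
  set φ := (hom h.amb h.hm1 M).rangeRestrict with hφ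
  have hsurj : Function.Surjective φ := MonoidHom.rangeRestrict_surjective _
  set S1 : Sylow 2 P := S.subtype h.SP with hS1
  set S2 : Sylow 2 (hom h.amb h.hm1 M).range := S1.mapSurjective hsurj with hS2
  -- `D ≤ range`
  have hle : D ≤ (hom h.amb h.hm1 M).range := by
    intro d hd
    obtain ⟨g, hg, h1⟩ := h.exists_pp (hfst d hd)
    exact ⟨⟨g, hg⟩, h1⟩
  set D' : Subgroup (hom h.amb h.hm1 M).range := D.subgroupOf _ with hD'
  have hD2 : IsPGroup 2 D' := hD.comap_of_injective _ Subtype.coe_injective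
  have hmem : ∀ x : (hom h.amb h.hm1 M).range, x ∈ (S2 : Subgroup _) → ∃ s ∈ (S : Subgroup G), pp M s = x := by
    intro x hx
    have h1 : x ∈ (S1 : Subgroup P).map φ := hx
    obtain ⟨s, hs, rfl⟩ := h1
    have h2 : s ∈ (S : Subgroup G).subgroupOf P := hs
    exact ⟨s, mem_subgroupOf.1 h2, rfl⟩
  have hnorm : (S2 : Subgroup _) ≤ normalizer (D' : Set (hom h.amb h.hm1 M).range) := by
    intro x hx
    obtain ⟨s, hs, h1⟩ := hmem x hx
    refine MinSimple.VModule.mem_normalizer_of_map_le ?_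
    rintro _ ⟨d, hd, rfl⟩
    have h2 : (d : Equiv.Perm (Pt k m)) ∈ D := mem_subgroupOf.1 hd
    change ((MulAut.conj x) d) ∈ D'
    rw [hD', mem_subgroupOf]
    have h3 : (((MulAut.conj x) d : (hom h.amb h.hm1 M).range) : Equiv.Perm (Pt k m)) =
        pp M s * (d : Equiv.Perm (Pt k m)) * (pp M s)⁻¹ := by
      rw [MulAut.conj_apply, Subgroup.coe_mul, Subgroup.coe_mul, Subgroup.coe_inv, ← h1]
    rw [h3]
    exact hn s hs _ h2
  have hsup : IsPGroup 2 ((S2 : Subgroup _) ⊔ D' : Subgroup (hom h.amb h.hm1 M).range) :=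
    S2.isPGroup'.to_sup_of_normal_right' hD2 hnorm
  have heq := S2.is_maximal' hsup le_sup_left
  have h1 : (⟨δ, hle hδ⟩ : (hom h.amb h.hm1 M).range) ∈ (S2 : Subgroup _) := by
    rw [← heq]
    exact mem_sup_right (mem_subgroupOf.2 hδ)
  exact hmem _ h1

end Sit

end Cfsg.Agent.Omega.IId.SymWrD
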