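import Cfsg.Agent.Omega.IId.SymWrD.TThm

/-!
# II.d, `SwBig`, `SwCv`: (T) in the form `TT`, `m ≥ 3` (`TThm.tt` has all `m ≥ 2`)
-/

set_option autoImplicit false

namespace Cfsg.Agent.Omega.IId.SymWrD

open Subgroup Pointwise Cfsg Cfsg.Agent.ZN Cfsg.Agent.Omega.MinPar Cfsg.Agent.Omega.FFThm
open Cfsg.Agent.Omega.Half.SymA (Pt E Mv pm Amb0)

universe u

variable {G : Type u} [Group G] {P V : Subgroup G} {k m : ℕ} {S : Sylow 2 G} {M : SymK (S : Subgroup G) P V ⊥ k m}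

/-- **(T)**, `m ≥ 3` -/
theorem TT_of_three [Finite G] (h : Sit S P V M) (_h3 : 3 ≤ m) {μ ν : Equiv.Perm (Pt k m)} (F : Fours M μ ν)
    {x : Pt k m} (hx : x.2 ≠ 0) : TT h F x := tt h F hx

end Cfsg.Agent.Omega.IId.SymWrD
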