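import Cfsg.Agent.Omega.IId.SymWrD.Main
import Cfsg.Agent.Omega.IId.SymWrD.TT

/-!
# II.d, `SwBig` and `SwCv`: F1 for `m ≥ 3`, all `k`, `D` (bb OMEGA #17498)
-/

set_option autoImplicit false

namespace Cfsg.Agent.Omega.IId.SymWrD

open Subgroup Cfsg Cfsg.Agent.ZN Cfsg.Agent.Omega.MinPar Cfsg.Agent.Omega.FFThm
open Cfsg.Agent.Omega.FrameFF (cv)
open Cfsg.Agent.Omega.IId.SwCv (Lb du FOne)

universe u

variable {G : Type u} [Group G] [Finite G] {P V : Subgroup G} {k m : ℕ} {S : Sylow 2 G}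

theorem ttAll_of_three {M : SymK (S : Subgroup G) P V ⊥ k m} (h : Sit S P V M) (h3 : 3 ≤ m) : TTAll h :=
  fun _ _ F _ hx => TT_of_three h h3 F hx

/-- **F1, `m ≥ 3`** -/
theorem fOne_three {M : SymK (S : Subgroup G) P (zl (S : Subgroup G) P) (cv (S : Subgroup G) P) k m}
    {ε : Fin k → (Fin (2 ^ m + 1) → ZMod 2) → G} (hG : IsCharacteristicTwoType G) (hP : IsParS (S : Subgroup G) P)
    (hL : Lb M ε) (hk : 0 < k) (h3 : 3 ≤ m) : FOne M ε :=
  fOne_of hG hP hL hk ((by norm_num : 2 ≤ 3).trans h3) (ttAll_of_three _ h3)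

end Cfsg.Agent.Omega.IId.SymWrD
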