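import Cfsg.Agent.Omega.IId.SymWrD.Mod

/-!
# II.d, `SwBig`, `SwCv` (copy of `SymWr/HHApp.lean` for `D` arbitrary): (HH) of THEOREM L (bb OMEGA #17498) from (E) and the halving lemma

* `Yi h i` : the vectors of `Ω₁(Z(O₂(P)))` fixed by `C_S(V_i)`, a module for the symmetric group of the summand `i`;
* `HH_all` : `HH h F l` for every summand `l`.
-/

set_option autoImplicit false

namespace Cfsg.Agent.Omega.IId.SymWrD

open Cfsg.Agent.Omega.IId.SymWr
open Subgroup Pointwise Cfsg Cfsg.Agent.ZN Cfsg.Agent.Omega.MinPar Cfsg.Agent.Omega.FFThm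
open Cfsg.Agent.Omega.Half (Amb amb_of_loc)
open Cfsg.Agent.Omega.Half.SymA (Pt E Mv pm)
open Cfsg.Agent.MinSimple.VModule (mem_zc zc_le zc_comm zc_sq zc_le_zl le_normalizer_o2 o2_isPGroup o2_le
  normalizer_le_normalizer_zc le_normalizer_zl)
open Cfsg.Agent.Omega.S5.Of (hat hat_add hat_comp sum_hat hat_eq_zero_iff)
open Cfsg.Agent.Omega.NSix.Match (Mod)

universe u

variable {G : Type u} [Group G] {P V : Subgroup G} {k m : ℕ} {S : Sylow 2 G} {M : SymK (S : Subgroup G) P V ⊥ k m}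

theorem fix_iff' (h : Sit S P V M) (s : G) (hs : s ∈ P) (y : ZM P) :
    (⟨pp M s, mem_Gam h hs⟩ : Gam h) • y = y ↔ s * y.val = y.val * s := smul_eq_iff h hs rfl y

/-- the permutation `τ` of the summand `i` -/
def bk (i : Fin k) (τ : Equiv.Perm (Fin (2 ^ m + 1))) : Equiv.Perm (Pt k m) where
  toFun p := if p.1 = i then (p.1, τ p.2) else p
  invFun p := if p.1 = i then (p.1, τ.symm p.2) else p
  left_inv p := by
    by_cases hp : p.1 = i
    · have h1 : (if p.1 = i then ((p.1, τ p.2) : Pt k m) else p) = (p.1, τ p.2) := if_pos hp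
      simp only [h1]
      rw [if_pos hp, τ.symm_apply_apply]
    · have h1 : (if p.1 = i then ((p.1, τ p.2) : Pt k m) else p) = p := if_neg hp
      simp only [h1]
      rw [if_neg hp]
  right_inv p := by
    by_cases hp : p.1 = i
    · have h1 : (if p.1 = i then ((p.1, τ.symm p.2) : Pt k m) else p) = (p.1, τ.symm p.2) := if_pos hp
      simp only [h1]
      rw [if_pos hp, τ.apply_symm_apply]
    · have h1 : (if p.1 = i then ((p.1, τ.symm p.2) : Pt k m) else p) = p := if_neg hp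
      simp only [h1]
      rw [if_neg hp]

theorem bk_of (i : Fin k) (τ : Equiv.Perm (Fin (2 ^ m + 1))) {p : Pt k m} (hp : p.1 = i) :
    bk i τ p = (p.1, τ p.2) := if_pos hp

theorem bk_of_ne (i : Fin k) (τ : Equiv.Perm (Fin (2 ^ m + 1))) {p : Pt k m} (hp : p.1 ≠ i) :
    bk i τ p = p := if_neg hp

theorem bk_fst (i : Fin k) (τ : Equiv.Perm (Fin (2 ^ m + 1))) (p : Pt k m) : (bk i τ p).1 = p.1 := by
  by_cases hp : p.1 = i
  · rw [bk_of i τ hp]
  · rw [bk_of_ne i τ hp]

theorem bk_mul (i : Fin k) (σ τ : Equiv.Perm (Fin (2 ^ m + 1))) : bk i (σ * τ) = bk i σ * bk i τ := by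
  ext1 p
  rw [Equiv.Perm.mul_apply]
  by_cases hp : p.1 = i
  · rw [bk_of i _ hp, bk_of i τ hp, bk_of i σ (p := (p.1, τ p.2)) hp]
    rfl
  · rw [bk_of_ne i _ hp, bk_of_ne i τ hp, bk_of_ne i σ hp]

theorem bk_one (i : Fin k) : bk i (1 : Equiv.Perm (Fin (2 ^ m + 1))) = 1 := by
  ext1 p
  by_cases hp : p.1 = i
  · rw [bk_of i _ hp]; rfl
  · rw [bk_of_ne i _ hp]; rfl

theorem bk_mem (h : Sit S P V M) (i : Fin k) (τ : Equiv.Perm (Fin (2 ^ m + 1))) : bk i τ ∈ Gam h := by
  obtain ⟨g, hg, h1⟩ := h.exists_pp (fun p => bk_fst i τ p)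
  rw [← h1]
  exact mem_Gam h hg

/-- the permutation `τ` of the summand `i`, as a homomorphism -/
noncomputable def bh (h : Sit S P V M) (i : Fin k) : Equiv.Perm (Fin (2 ^ m + 1)) →* Gam h where
  toFun τ := ⟨bk i τ, bk_mem h i τ⟩
  map_one' := Subtype.ext (bk_one i)
  map_mul' σ τ := Subtype.ext (bk_mul i σ τ)

theorem bh_coe (h : Sit S P V M) (i : Fin k) (τ : Equiv.Perm (Fin (2 ^ m + 1))) :
    ((bh h i τ : Gam h) : Equiv.Perm (Pt k m)) = bk i τ := rfl

theorem bh_mem (h : Sit S P V M) (i : Fin k) (τ : Equiv.Perm (Fin (2 ^ m + 1))) : bh h i τ ∈ BB h i :=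
  fun _ hp => bk_of_ne i τ hp

/-- every element of `BB h i` is a permutation of the summand `i` -/
theorem exists_bh (h : Sit S P V M) {i : Fin k} {γ : Gam h} (hγ : γ ∈ BB h i) : ∃ τ, bh h i τ = γ := by
  have hf := fun p => BB_fst h hγ p
  have hf' : ∀ p, ((γ : Equiv.Perm (Pt k m)).symm p).1 = p.1 := fun p => BB_fst h ((BB h i).inv_mem hγ) p
  let τ : Equiv.Perm (Fin (2 ^ m + 1)) :=
    { toFun := fun x => ((γ : Equiv.Perm (Pt k m)) (i, x)).2
      invFun := fun x => ((γ : Equiv.Perm (Pt k m)).symm (i, x)).2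
      left_inv := fun x => by
        have h1 : ((i, ((γ : Equiv.Perm (Pt k m)) (i, x)).2) : Pt k m) = (γ : Equiv.Perm (Pt k m)) (i, x) :=
          Prod.ext (hf (i, x)).symm rfl
        simp only [h1, Equiv.symm_apply_apply]
      right_inv := fun x => by
        have h1 : ((i, ((γ : Equiv.Perm (Pt k m)).symm (i, x)).2) : Pt k m) = (γ : Equiv.Perm (Pt k m)).symm (i, x) :=
          Prod.ext (hf' (i, x)).symm rfl
        simp only [h1, Equiv.apply_symm_apply] }
  refine ⟨τ, Subtype.ext ?_⟩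
  ext1 p
  rw [bh_coe]
  by_cases hp : p.1 = i
  · rw [bk_of i τ hp]
    refine Prod.ext (hf p).symm ?_
    have h2 : p = (i, p.2) := Prod.ext hp rfl
    change ((γ : Equiv.Perm (Pt k m)) (i, p.2)).2 = _
    rw [← h2]
  · rw [bk_of_ne i τ hp, hγ p hp]

/-- the elements of `S` fixing the points of the summand `i` -/
def SF (S : Sylow 2 G) (M : SymK (S : Subgroup G) P V ⊥ k m) (i : Fin k) (s : G) : Prop :=
  s ∈ (S : Subgroup G) ∧ ∀ p : Pt k m, p.1 = i → pp M s p = p

/-- the vectors fixed by `C_S(V_i)` -/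
def Yi (h : Sit S P V M) (i : Fin k) : AddSubgroup (ZM P) where
  carrier := {y | ∀ s, SF S M i s → s * y.val = y.val * s}
  add_mem' := by
    intro a b ha hb s hs
    rw [ZM.val_add, ← mul_assoc, ha s hs, mul_assoc, hb s hs, mul_assoc]
  zero_mem' := by
    intro s _
    rw [ZM.val_zero, mul_one, one_mul]
  neg_mem' := by
    intro a ha s hs
    have h1 : (-a).val = a.val := by
      rw [ZM.val_neg, inv_eq_of_mul_eq_one_left]
      exact Sit.zz_sq a.mem
    rw [h1]
    exact ha s hs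

theorem mem_Yi (h : Sit S P V M) {i : Fin k} {y : ZM P} :
    y ∈ Yi h i ↔ ∀ s, SF S M i s → s * y.val = y.val * s := Iff.rfl

/-- `BB h i` acts on `Yi h i` -/
theorem smul_mem_Yi (h : Sit S P V M) {i : Fin k} {γ : Gam h} (hγ : γ ∈ BB h i) {y : ZM P} (hy : y ∈ Yi h i) :
    γ • y ∈ Yi h i := by
  intro s hs
  have hsP := h.SP hs.1
  rw [← fix_iff' h s hsP]
  have h1 : (⟨pp M s, mem_Gam h hsP⟩ : Gam h) * γ = γ * ⟨pp M s, mem_Gam h hsP⟩ := by
    apply Subtype.ext
    ext1 p
    change pp M s ((γ : Equiv.Perm (Pt k m)) p) = (γ : Equiv.Perm (Pt k m)) (pp M s p)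
    by_cases hp : p.1 = i
    · rw [hs.2 p hp, hs.2 _ ((BB_fst h hγ p).trans hp)]
    · rw [hγ p hp, hγ]
      intro h2
      apply hp
      have h3 := hs.2 _ h2
      have h4 := (pp M s).injective h3
      rw [← h4]
      exact h2
  rw [← mul_smul, h1, mul_smul, (fix_iff' h s hsP y).2 (hy s hs)]

noncomputable instance actY (h : Sit S P V M) (i : Fin k) :
    DistribMulAction (Equiv.Perm (Fin (2 ^ m + 1))) (Yi h i) where
  smul τ y := ⟨bh h i τ • y.1, smul_mem_Yi h (bh_mem h i τ) y.2⟩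
  one_smul y := by
    apply Subtype.ext
    change bh h i 1 • y.1 = y.1
    rw [map_one, one_smul]
  mul_smul σ τ y := by
    apply Subtype.ext
    change bh h i (σ * τ) • y.1 = bh h i σ • bh h i τ • y.1
    rw [map_mul, mul_smul]
  smul_zero τ := Subtype.ext (smul_zero (bh h i τ))
  smul_add τ x y := Subtype.ext (smul_add (bh h i τ) x.1 y.1)

theorem coe_smulY (h : Sit S P V M) (i : Fin k) (τ : Equiv.Perm (Fin (2 ^ m + 1))) (y : Yi h i) :
    ((τ • y : Yi h i) : ZM P) = bh h i τ • (y : ZM P) := rfl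

/-! ### The copy of the even-subset module -/

theorem lab_Yi (h : Sit S P V M) (i : Fin k) (f : Fin (2 ^ m + 1) → ZMod 2) :
    (⟨LFour.SymF.lab M h.hm1 i f, h.VZ (LFour.SymF.lab_mem M h.hm1 i f)⟩ : ZM P) ∈ Yi h i := by
  intro s hs
  have h1 := LFour.SymF.lab_mem M h.hm1 i f
  change s * LFour.SymF.lab M h.hm1 i f = LFour.SymF.lab M h.hm1 i f * s
  rw [h.comm_iff (h.SP hs.1) h1]
  intro p
  by_cases hp : p.1 = i
  · rw [hs.2 p hp]
  · have h2 : (pp M s p).1 ≠ i := by
      intro h2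
      have h3 := hs.2 _ h2
      have h4 := (pp M s).injective h3
      apply hp
      rw [← h4]
      exact h2
    have h3 : ∀ q : Pt k m, q.1 ≠ i → E M (LFour.SymF.lab M h.hm1 i f) q = 0 := by
      intro q hq
      change M.e _ q.1 q.2 = 0
      rw [LFour.SymF.e_lab, Pi.single_eq_of_ne hq]
      rfl
    rw [h3 _ h2, h3 _ hp]

/-- the copy of the even-subset module -/
noncomputable def io (h : Sit S P V M) (i : Fin k) (f : Fin (2 ^ m + 1) → ZMod 2) : Yi h i :=
  ⟨⟨LFour.SymF.lab M h.hm1 i f, h.VZ (LFour.SymF.lab_mem M h.hm1 i f)⟩, lab_Yi h i f⟩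

theorem io_val (h : Sit S P V M) (i : Fin k) (f : Fin (2 ^ m + 1) → ZMod 2) :
    (io h i f : ZM P).val = LFour.SymF.lab M h.hm1 i f := rfl

theorem E_io (h : Sit S P V M) (i : Fin k) (f : Fin (2 ^ m + 1) → ZMod 2) (p : Pt k m) :
    E M (io h i f : ZM P).val p = if p.1 = i then hat f p.2 else 0 := by
  rw [io_val]
  change M.e _ p.1 p.2 = _
  rw [LFour.SymF.e_lab]
  by_cases hp : p.1 = i
  · rw [if_pos hp, hp, Pi.single_eq_same]
  · rw [if_neg hp, Pi.single_eq_of_ne hp]
    rfl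

theorem io_mod (h : Sit S P V M) (i : Fin k) : Mod (io h i) where
  two y := Subtype.ext (ZM.add_self _)
  add f g := by
    apply Subtype.ext
    apply ZM.ext
    exact LFour.SymF.lab_add M h.hm1 i f g
  act σ f := by
    apply Subtype.ext
    rw [coe_smulY]
    have h1 := (io h i f : ZM P)
    have h2 : (io h i f : ZM P).val ∈ V := LFour.SymF.lab_mem M h.hm1 i f
    refine eq_of_E h (smul_mem_V h _ h2) (LFour.SymF.lab_mem M h.hm1 i _) fun p => ?_
    rw [E_smul h _ h2, E_io]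
    have h3 := E_io h i (f ∘ σ.symm) p
    rw [h3, bh_coe]
    by_cases hp : p.1 = i
    · have h4 : (bk i σ).symm p = (p.1, σ.symm p.2) := if_pos hp
      rw [h4, if_pos hp, if_pos hp, hat_comp]
      rfl
    · have h4 : (bk i σ).symm p = p := if_neg hp
      rw [h4, if_neg hp, if_neg hp]
  ker f := by
    rw [Subtype.ext_iff, ZM.ext_iff]
    exact LFour.SymF.lab_eq_one_iff M h.hm1 i f

/-! ### The Sylow subgroup of the symmetric group of the summand -/

section sylow

variable [Finite G]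

/-- the permutations of the summand `i` which are induced by `S` -/
noncomputable def RS (h : Sit S P V M) (i : Fin k) : Subgroup (Equiv.Perm (Fin (2 ^ m + 1))) :=
  (SS h).comap (bh h i)

theorem range_bh (h : Sit S P V M) (i : Fin k) : (bh h i).range = BB h i := by
  ext γ
  constructor
  · rintro ⟨τ, rfl⟩
    exact bh_mem h i τ
  · intro hγ
    obtain ⟨τ, h1⟩ := exists_bh h hγ
    exact ⟨τ, h1⟩

theorem bh_inj (h : Sit S P V M) (i : Fin k) : Function.Injective (bh h i) := by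
  intro σ τ hst
  ext1 x
  have h1 := congrArg (fun γ : Gam h => (γ : Equiv.Perm (Pt k m)) (i, x)) hst
  change bk i σ (i, x) = bk i τ (i, x) at h1
  rw [bk_of i σ (p := (i, x)) rfl, bk_of i τ (p := (i, x)) rfl] at h1
  exact congrArg Prod.snd h1

theorem RS_isPGroup (h : Sit S P V M) (i : Fin k) : IsPGroup 2 (RS h i) :=
  (SS_two h).comap_of_injective _ (bh_inj h i)

theorem not_dvd_RS (h : Sit S P V M) (i : Fin k) : ¬ 2 ∣ (RS h i).index := by
  rw [RS, index_comap, range_bh, ← even_iff_two_dvd, Nat.not_even_iff_odd]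
  exact oddB h i

/-- the Sylow 2-subgroup of `Sym` of the summand `i` induced by `S` -/
noncomputable def RSyl (h : Sit S P V M) (i : Fin k) : Sylow 2 (Equiv.Perm (Fin (2 ^ m + 1))) :=
  (RS_isPGroup h i).toSylow (not_dvd_RS h i)

theorem mem_RSyl (h : Sit S P V M) (i : Fin k) {τ : Equiv.Perm (Fin (2 ^ m + 1))} :
    τ ∈ (RSyl h i : Subgroup (Equiv.Perm (Fin (2 ^ m + 1)))) ↔ bh h i τ ∈ SS h := Iff.rfl

/-- the elements of `S` fixing the summand `i` induce elements of `RSyl h i` on it -/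
theorem exists_RS (h : Sit S P V M) {i : Fin k} {s : Gam h} (hs : s ∈ SS h) (hsi : aa h s i = i) :
    ∃ τ, bh h i τ ∈ SS h ∧ ∀ p : Pt k m, p.1 = i → (s : Equiv.Perm (Pt k m)) p = bk i τ p := by
  classical
  -- the action of the stabiliser of `i` on the summand `i`
  let St : Subgroup (Gam h) :=
    { carrier := {γ | γ ∈ SS h ∧ ∀ p : Pt k m, p.1 = i → ((γ : Equiv.Perm (Pt k m)) p).1 = i}
      mul_mem' := by
        rintro a b ⟨ha, h1⟩ ⟨hb, h2⟩
        exact ⟨mul_mem ha hb, fun p hp => h1 _ (h2 p hp)⟩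
      one_mem' := ⟨one_mem _, fun p hp => hp⟩
      inv_mem' := by
        rintro a ⟨ha, h1⟩
        refine ⟨inv_mem ha, fun p hp => ?_⟩
        change ((a : Equiv.Perm (Pt k m)).symm p).1 = i
        have h2 : aa h a i = i := h1 (i, 0) rfl
        apply (aa h a).injective
        rw [aa_apply, Equiv.apply_symm_apply, hp, h2] }
  have hSt : ∀ γ ∈ St, ∀ p : Pt k m, p.1 = i → ((γ : Equiv.Perm (Pt k m)) p).1 = i := fun γ hγ => hγ.2
  have hSt' : ∀ γ ∈ St, ∀ p : Pt k m, p.1 = i → ((γ : Equiv.Perm (Pt k m)).symm p).1 = i := fun γ hγ =>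
    (St.inv_mem hγ).2
  let ρ : St →* Equiv.Perm (Fin (2 ^ m + 1)) :=
    { toFun := fun γ =>
        { toFun := fun x => ((γ : Gam h) : Equiv.Perm (Pt k m)) (i, x) |>.2
          invFun := fun x => ((γ : Gam h) : Equiv.Perm (Pt k m)).symm (i, x) |>.2
          left_inv := fun x => by
            have h1 : ((i, (((γ : Gam h) : Equiv.Perm (Pt k m)) (i, x)).2) : Pt k m) =
                ((γ : Gam h) : Equiv.Perm (Pt k m)) (i, x) := Prod.ext (hSt γ γ.2 _ rfl).symm rfl
            simp only [h1, Equiv.symm_apply_apply]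
          right_inv := fun x => by
            have h1 : ((i, (((γ : Gam h) : Equiv.Perm (Pt k m)).symm (i, x)).2) : Pt k m) =
                ((γ : Gam h) : Equiv.Perm (Pt k m)).symm (i, x) := Prod.ext (hSt' γ γ.2 _ rfl).symm rfl
            simp only [h1, Equiv.apply_symm_apply] }
      map_one' := rfl
      map_mul' := fun γ δ => by
        ext1 x
        have h1 : ((i, (((δ : Gam h) : Equiv.Perm (Pt k m)) (i, x)).2) : Pt k m) =
            ((δ : Gam h) : Equiv.Perm (Pt k m)) (i, x) := Prod.ext (hSt δ δ.2 _ rfl).symm rfl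
        change (((γ : Gam h) : Equiv.Perm (Pt k m)) (((δ : Gam h) : Equiv.Perm (Pt k m)) (i, x))).2 =
          (((γ : Gam h) : Equiv.Perm (Pt k m)) (i, (((δ : Gam h) : Equiv.Perm (Pt k m)) (i, x)).2)).2
        rw [h1] }
  have hρ : ∀ (γ : St) (p : Pt k m), p.1 = i → ((γ : Gam h) : Equiv.Perm (Pt k m)) p = bk i (ρ γ) p := by
    intro γ p hp
    rw [bk_of i _ hp]
    have h2 : p = (i, p.2) := Prod.ext hp rfl
    refine Prod.ext ((hSt γ γ.2 p hp).trans hp.symm) ?_
    change _ = (((γ : Gam h) : Equiv.Perm (Pt k m)) (i, p.2)).2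
    rw [← h2]
  have hr2 : IsPGroup 2 ρ.range := by
    have h1 : IsPGroup 2 St := (SS_two h).to_le fun γ hγ => hγ.1
    intro y
    obtain ⟨γ, hγ⟩ := y.2
    obtain ⟨n, hn⟩ := h1 γ
    refine ⟨n, Subtype.ext ?_⟩
    change (y : Equiv.Perm (Fin (2 ^ m + 1))) ^ 2 ^ n = 1
    rw [← hγ, ← map_pow, hn, map_one]
  have hle : (RSyl h i : Subgroup (Equiv.Perm (Fin (2 ^ m + 1)))) ≤ ρ.range := by
    intro τ hτ
    have h1 : bh h i τ ∈ St := ⟨hτ, fun p hp => by rw [bh_coe, bk_fst, hp]⟩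
    refine ⟨⟨bh h i τ, h1⟩, ?_⟩
    ext1 x
    change (bk i τ (i, x)).2 = τ x
    rw [bk_of i τ (p := (i, x)) rfl]
  have heq := (RSyl h i).is_maximal' hr2 hle
  have hsSt : s ∈ St := ⟨hs, fun p hp => by rw [← aa_apply, hp, hsi]⟩
  refine ⟨ρ ⟨s, hsSt⟩, ?_, fun p hp => hρ ⟨s, hsSt⟩ p hp⟩
  have h1 : ρ ⟨s, hsSt⟩ ∈ (RSyl h i : Subgroup (Equiv.Perm (Fin (2 ^ m + 1)))) := by
    rw [← heq]
    exact ⟨_, rfl⟩
  exact h1

/-- a vector of `Yi h i` which is fixed by the Sylow subgroup is fixed by the stabiliser of `i` in `S` -/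
theorem fix_stab (h : Sit S P V M) {i : Fin k} {y : ZM P} (hy : y ∈ Yi h i)
    (hR : ∀ τ, bh h i τ ∈ SS h → bh h i τ • y = y) {s : Gam h} (hs : s ∈ SS h) (hsi : aa h s i = i) : s • y = y := by
  obtain ⟨τ, hτ, h1⟩ := exists_RS h hs hsi
  have h2 : (bh h i τ)⁻¹ * s ∈ SS h := mul_mem (inv_mem hτ) hs
  obtain ⟨t, ht, h3⟩ := (mem_SS h).1 h2
  have h4 : SF S M i t := by
    refine ⟨ht, fun p hp => ?_⟩
    rw [h3]
    change ((bh h i τ : Gam h) : Equiv.Perm (Pt k m)).symm ((s : Equiv.Perm (Pt k m)) p) = p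
    rw [h1 p hp, bh_coe, Equiv.symm_apply_apply]
  have h5 : ((bh h i τ)⁻¹ * s) • y = y := (smul_eq_iff h (h.SP ht) h3 y).2 (hy t h4)
  have h6 : s = bh h i τ * ((bh h i τ)⁻¹ * s) := by group
  rw [h6, mul_smul, h5, hR τ hτ]

/-- **(HH)** for every summand. -/
theorem HH_all {D : Subgroup G} (hD : SitD S P V D M) {μ ν : Equiv.Perm (Pt k m)} (F : Fours M μ ν) (l : Fin k) :
    HH hD.toSit F l := by
  have h : Sit S P V M := hD.toSit
  classical
  intro y hy hA hS
  set y' : ZM P := ⟨y, hy⟩ with hy'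
  have hyY : y' ∈ Yi h l := fun s hs => hS s hs.1 hs.2
  -- the matching
  let μl : Equiv.Perm (Fin (2 ^ m + 1)) :=
    { toFun := fun x => (μ (l, x)).2
      invFun := fun x => (μ (l, x)).2
      left_inv := fun x => by
        have h1 : ((l, (μ (l, x)).2) : Pt k m) = μ (l, x) := Prod.ext (F.mfst (l, x)).symm rfl
        simp only [h1, F.msq]
      right_inv := fun x => by
        have h1 : ((l, (μ (l, x)).2) : Pt k m) = μ (l, x) := Prod.ext (F.mfst (l, x)).symm rfl
        simp only [h1, F.msq] }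
  have hμl : ∀ x, ((l, μl x) : Pt k m) = μ (l, x) := fun x => Prod.ext (F.mfst (l, x)).symm rfl
  have hμl0 : μl 0 = 0 := by
    have h1 := F.mzero (l, 0) rfl
    exact congrArg Prod.snd h1
  have hμlne : ∀ x, x ≠ 0 → μl x ≠ x := by
    intro x hx h0
    apply F.mne (l, x) hx
    rw [← hμl, h0]
  have hμl2 : ∀ x, μl (μl x) = x := by
    intro x
    have h1 := F.msq (l, x)
    rw [← hμl x, ← hμl] at h1
    exact congrArg Prod.snd h1
  -- `sg h l = ι (single 0 1)`
  have hsg : ((io h l (Pi.single 0 1) : Yi h l) : ZM P) = sg h l := by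
    have h2 : ((io h l (Pi.single 0 1) : Yi h l) : ZM P).val ∈ V := LFour.SymF.lab_mem M h.hm1 l _
    refine eq_of_E h h2 (sg_mem h l) fun p => ?_
    rw [E_io, E_sg]
    by_cases hp : p.1 = l
    · rw [if_pos hp, if_pos hp]
      change (Pi.single 0 1 : Fin (2 ^ m + 1) → ZMod 2) p.2 + ∑ j, (Pi.single 0 1 : Fin (2 ^ m + 1) → ZMod 2) j = _
      rw [Finset.sum_pi_single', if_pos (Finset.mem_univ _)]
      by_cases hp2 : p.2 = 0
      · rw [if_pos hp2, hp2, Pi.single_eq_same]; rfl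
      · rw [if_neg hp2, Pi.single_eq_of_ne hp2, zero_add]
    · rw [if_neg hp, if_neg hp]
  have hm1 := h.hm1
  obtain ⟨φ, g, hφ, hg0, hgμ, hyφ⟩ := Halve.halve (io_mod h l) hm1 (Fintype.card_fin _) 0 (RSyl h l) (by
      intro τ hτ
      have h1 : bh h l τ ∈ SS h := hτ
      have h2 := (SS_snd h h1 (l, 0)).2 rfl
      rw [bh_coe, bk_of l τ (p := (l, 0)) rfl] at h2
      exact h2) (by
      intro w hw
      have h1 : ∀ τ, bh h l τ ∈ SS h → bh h l τ • (w : ZM P) = w := fun τ hτ => congrArg Subtype.val (hw τ hτ)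
      obtain ⟨φ, h2, h3⟩ := E_main hD l (x := (w : ZM P)) fun s hs hsl => fix_stab h w.2 h1 hs hsl
      have h4 : φ ∈ Yi h l := by
        rcases h3 with h3 | h3
        · rw [← h3]; exact w.2
        · have h5 : φ = w - sg h l := by rw [h3, add_sub_cancel_right]
          rw [h5, ← hsg]
          exact sub_mem w.2 (io h l (Pi.single 0 1)).2
      refine ⟨⟨φ, h4⟩, fun τ => Subtype.ext (h2 _ (bh_mem h l τ)), ?_⟩
      rcases h3 with h3 | h3
      · left; exact Subtype.ext h3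
      · right
        apply Subtype.ext
        rw [h3, ← hsg]
        rfl) μl hμl0 hμlne hμl2 ⟨y', hyY⟩ (by
      intro x
      apply Subtype.ext
      rw [coe_smulY]
      have h1 : bk l (Equiv.swap x (μl x)) ∈ F.FA := by
        intro p
        by_cases hp : p.1 = l
        · rw [bk_of l _ hp]
          have h2 : p = (l, p.2) := Prod.ext hp rfl
          by_cases h3 : p.2 = x
          · right
            rw [h3, Equiv.swap_apply_left, hp, hμl, h2, h3]
          · by_cases h4 : p.2 = μl x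
            · right
              rw [h4, Equiv.swap_apply_right, hp]
              have h5 : p = μ (l, x) := by rw [h2, h4, hμl]
              rw [h5, F.msq]
            · left
              rw [Equiv.swap_apply_of_ne_of_ne h3 h4]
        · left; exact bk_of_ne l _ hp
      obtain ⟨t, ht, h2⟩ := Fours.exists_A h F h1
      exact (smul_eq_iff h (h.SP ht.1) h2 y').2 (hA t ht))
  have hgsum : ∑ x, g x = 0 := by
    have h1 : ∑ x, g x = ∑ x ∈ (Finset.univ.filter fun x => x ≠ 0), g x := by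
      rw [Finset.sum_filter]
      apply Finset.sum_congr rfl
      intro x _
      by_cases hx : x = 0
      · rw [if_neg (not_not.2 hx), hx, hg0]
      · rw [if_pos hx]
    rw [h1]
    refine Finset.sum_involution (fun x _ => μl x) ?_ ?_ ?_ ?_
    · intro x _
      rw [hgμ]
      exact CharTwo.add_self_eq_zero _
    · intro x hx _
      exact hμlne x (Finset.mem_filter.1 hx).2
    · intro x hx
      refine Finset.mem_filter.2 ⟨Finset.mem_univ _, fun h2 => (Finset.mem_filter.1 hx).2 ?_⟩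
      rw [← hμl2 x, h2, hμl0]
    · intro x _
      exact hμl2 x
  have hat_g : hat g = g := LFour.SymF.hat_of_even hgsum
  refine ⟨(io h l g : ZM P).val, LFour.SymF.lab_mem M h.hm1 l g, (φ : ZM P).val, (φ : ZM P).mem, ?_, ?_, ?_, ?_, ?_⟩
  · intro p hp
    rw [E_io, if_neg hp]
  · rw [E_io, if_pos rfl, hat_g, hg0]
  · intro p
    rw [E_io, E_io, F.mfst]
    by_cases hp : p.1 = l
    · rw [if_pos hp, if_pos hp, hat_g]
      have h2 : p = (l, p.2) := Prod.ext hp rfl
      have h3 : (μ p).2 = μl p.2 := congrArg (fun q => (μ q).2) h2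
      rw [h3, hgμ]
    · rw [if_neg hp, if_neg hp]
  · intro b hb hbl
    have h1 : (⟨pp M b, mem_Gam h hb⟩ : Gam h) ∈ BB h l := hbl
    obtain ⟨τ, h2⟩ := exists_bh h h1
    have h3 := congrArg Subtype.val (hφ τ)
    rw [coe_smulY, h2] at h3
    exact (fix_iff' h b hb _).1 h3
  · have h1 := congrArg (fun w : Yi h l => (w : ZM P).val) hyφ
    have h2 : y = (φ : ZM P).val * (io h l g : ZM P).val := h1
    rw [h2]
    exact Sit.zz_comm (φ : ZM P).mem (io h l g : ZM P).mem

end sylow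

end Cfsg.Agent.Omega.IId.SymWrD
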