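import Cfsg.Agent.Omega.IId.SymWrD.HHApp

/-!
# II.d, `SwBig`, `SwCv` (copy of `SymWr/LMain.lean` for `D` arbitrary): THEOREM L for all duads, from (T) (bb OMEGA #17498)

* `L_dual` : `O₂(C_G(n)) ≤ P` for every duad `n`, `m ≥ 3`, from `TT h F x` for all `x`;
* the consequences of `O₂(C_G(n)) ≤ P` (`Perp`): `W = O₂(C_G(n))` acts on `V` inside `⟨t_n⟩`, the elements of `V`
  commuting with `t_n` lie in `Z(W)`, and `V ≤ W`, `[W, V] ≤ ⟨n⟩`.
-/

set_option autoImplicit false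

namespace Cfsg.Agent.Omega.IId.SymWrD

open Cfsg.Agent.Omega.IId.SymWr
open Subgroup Pointwise Cfsg Cfsg.Agent.ZN Cfsg.Agent.Omega.MinPar Cfsg.Agent.Omega.FFThm
open Cfsg.Agent.Omega.Half (Amb amb_of_loc)
open Cfsg.Agent.Omega.Half.SymA (Pt E Mv pm)
open Cfsg.Agent.MinSimple.VModule (mem_zc zc_le zc_comm zc_sq zc_le_zl le_normalizer_o2 o2_isPGroup o2_le
  normalizer_le_normalizer_zc le_normalizer_zl)

universe u

variable {G : Type u} [Group G] [Finite G] {P V : Subgroup G} {k m : ℕ} {S : Sylow 2 G}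
  {M : SymK (S : Subgroup G) P V ⊥ k m}

/-- conjugates of `O₂(C_G(r))` -/
theorem conj_o2C (g r : G) {x : G} (hx : x ∈ o2 (centralizer ({r} : Set G))) :
    g * x * g⁻¹ ∈ o2 (centralizer ({g * r * g⁻¹} : Set G)) := by
  have h1 : o2 (centralizer ({g * r * g⁻¹} : Set G)) = (o2 (centralizer ({r} : Set G))).map
      (MulAut.conj g).toMonoidHom := by
    have h2 : centralizer ({g * r * g⁻¹} : Set G) = (centralizer ({r} : Set G)).map (MulAut.conj g).toMonoidHom := by
      ext y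
      rw [mem_centralizer_singleton_iff]
      constructor
      · intro hy
        refine ⟨g⁻¹ * y * g, ?_, by simp [mul_assoc]⟩
        change g⁻¹ * y * g ∈ centralizer ({r} : Set G)
        rw [mem_centralizer_singleton_iff]
        calc g⁻¹ * y * g * r = g⁻¹ * (y * (g * r * g⁻¹)) * g := by group
          _ = g⁻¹ * (g * r * g⁻¹ * y) * g := by rw [hy]
          _ = r * (g⁻¹ * y * g) := by group
      · rintro ⟨a, ha, rfl⟩
        have ha' : a * r = r * a := mem_centralizer_singleton_iff.1 ha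
        change g * a * g⁻¹ * (g * r * g⁻¹) = g * r * g⁻¹ * (g * a * g⁻¹)
        calc g * a * g⁻¹ * (g * r * g⁻¹) = g * (a * r) * g⁻¹ := by group
          _ = g * (r * a) * g⁻¹ := by rw [ha']
          _ = g * r * g⁻¹ * (g * a * g⁻¹) := by group
    rw [h2]
    exact MinSimple.CosetFam.o2_conj g _
  rw [h1]
  exact ⟨x, hx, rfl⟩

/-- the duads are conjugate -/
theorem exists_conj_pr (h : Sit S P V M) {x y p q : Pt k m} (hxy : x.1 = y.1) (hne : x ≠ y) (hpq : p.1 = q.1)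
    (hpq' : p ≠ q) : ∃ g ∈ P, g * pr M x y * g⁻¹ = pr M p q := by
  classical
  obtain ⟨t, ht, π, hπ, h1⟩ := Half.SymA.trans_sum (M := M) x.1 p.1
  have htP := h.SP ht
  have h2 : pp M t = π := pp_eq h.amb h.hm1 htP hπ
  have hx' : (pp M t x).1 = p.1 := by rw [h2]; exact h1 x rfl
  have hy' : (pp M t y).1 = p.1 := by rw [h2]; exact h1 y hxy.symm
  have hne' : pp M t x ≠ pp M t y := fun h0 => hne ((pp M t).injective h0)
  -- swap in the summand
  have key : ∀ a b : Pt k m, a.1 = b.1 → ∀ r, (Equiv.swap a b r).1 = r.1 := by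
    intro a b hab r
    rcases eq_or_ne r a with rfl | hr
    · rw [Equiv.swap_apply_left, hab]
    · rcases eq_or_ne r b with rfl | hr'
      · rw [Equiv.swap_apply_right, hab]
      · rw [Equiv.swap_apply_of_ne_of_ne hr hr']
  set y1 := Equiv.swap (pp M t x) p (pp M t y) with hy1
  have hy11 : y1.1 = p.1 := by rw [hy1, key _ _ hx', hy']
  have hy1p : y1 ≠ p := by
    intro h0
    rw [hy1] at h0
    have h3 := congrArg (Equiv.swap (pp M t x) p) h0
    rw [Equiv.swap_apply_self, Equiv.swap_apply_right] at h3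
    exact hne' h3.symm
  obtain ⟨g, hg, h3⟩ := h.exists_pp (π := Equiv.swap y1 q * Equiv.swap (pp M t x) p) (by
    intro r
    rw [Equiv.Perm.mul_apply, key _ _ (hy11.trans hpq), key _ _ hx'])
  refine ⟨g * t, P.mul_mem hg htP, ?_⟩
  rw [h.conj_pr (P.mul_mem hg htP) hxy, h.mul hg htP, Equiv.Perm.mul_apply, Equiv.Perm.mul_apply, h3,
    Equiv.Perm.mul_apply, Equiv.Perm.mul_apply, Equiv.swap_apply_left, ← hy1, Equiv.swap_apply_left,
    Equiv.swap_apply_of_ne_of_ne hy1p.symm hpq']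

/-- **THEOREM L** for all duads, from (T) -/
theorem L_dual {D : Subgroup G} (hD : SitD S P V D M) (hm : 3 ≤ m)
    (hTT : ∀ (μ ν : Equiv.Perm (Pt k m)) (F : Fours M μ ν) (x : Pt k m), x.2 ≠ 0 → TT hD.toSit F x) {p q : Pt k m}
    (hpq : p.1 = q.1) (hne : p ≠ q) : o2 (centralizer ({pr M p q} : Set G)) ≤ P := by
  have h : Sit S P V M := hD.toSit
  obtain ⟨μ, ν, F⟩ := exists_fours h
  obtain ⟨c, -, hc⟩ := Half.SymA.exists_third h.hm1 0 0
  set x : Pt k m := (p.1, c) with hx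
  have hL := L_of h F hm (x := x) hc (hTT μ ν F x hc) (HH_all hD F _)
  obtain ⟨g, hg, h1⟩ := exists_conj_pr h (F.mfst x).symm (F.mne x hc).symm hpq hne
  intro y hy
  rw [← h1] at hy
  have h2 := conj_o2C g⁻¹ _ hy
  have h3 : g⁻¹ * (g * pr M x (μ x) * g⁻¹) * g⁻¹⁻¹ = pr M x (μ x) := by group
  rw [h3] at h2
  have h4 := P.mul_mem (P.mul_mem hg (hL h2)) (P.inv_mem hg)
  have h5 : g * (g⁻¹ * y * g⁻¹⁻¹) * g⁻¹ = y := by group
  rwa [h5] at h4

end Cfsg.Agent.Omega.IId.SymWrD
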