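import Cfsg.Agent.Omega.IId.SymWrD.LTwo
import Cfsg.Agent.Omega.IId.SymWrD.LMain
import Cfsg.Agent.Omega.IId.SwCv.Conc

/-!
# II.d, `SwBig` and `SwCv`: F1 for all `k`, `m`, `D` (bb OMEGA #17498, #18061, #18777)

* `L_all` : `O₂(C_G(n)) ≤ P` acts inside `⟨t_n⟩`, for all duads `n`, from (T);
* `le_o2_of_comm` : `V ≤ W = O₂(C_G(n))` if `[V, W] ≤ ⟨n⟩`;
* `sitD_of_lb` : the situation for the labels `ε` of helper714;
* `fOne_of` : **F1**: `FOne M ε` from (T).
-/

set_option autoImplicit false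

namespace Cfsg.Agent.Omega.IId.SymWrD

open Subgroup Pointwise Cfsg Cfsg.Agent.ZN Cfsg.Agent.Omega.MinPar Cfsg.Agent.Omega.FFThm
open Cfsg.Agent.Omega.FrameFF (cv)
open Cfsg.Agent.Omega.Half.SymA (Pt E Mv pm Amb0)
open Cfsg.Agent.MinSimple.VModule (mem_zc zc_le zc_comm zc_sq zc_le_zl le_normalizer_o2 o2_isPGroup o2_le le_o2
  normalizer_le_normalizer_zc le_normalizer_zl)
open Cfsg.Agent.Omega.IId.SwCv (Lb du FOne)
open scoped commutatorElement

universe u

variable {G : Type u} [Group G] [Finite G] {P V : Subgroup G} {k m : ℕ} {S : Sylow 2 G}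
  {M : SymK (S : Subgroup G) P V ⊥ k m}

/-- (T) for all situations of this degree -/
def TTAll {S : Sylow 2 G} {M : SymK (S : Subgroup G) P V ⊥ k m} (h : Sit S P V M) : Prop :=
  ∀ (μ ν : Equiv.Perm (Pt k m)) (F : Fours M μ ν) (x : Pt k m), x.2 ≠ 0 → TT h F x

omit [Finite G] in
theorem swap_eq_of_pr {a b p q : Pt k m} (hab : a.1 = b.1) (hne : a ≠ b) (hpq : p.1 = q.1) (hne' : p ≠ q)
    (h : pr M a b = pr M p q) : Equiv.swap a b = Equiv.swap p q := by
  have h1 : a = p ∨ a = q := by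
    by_contra h0
    push Not at h0
    have h2 := E_pr_left M hab hne
    rw [h, E_pr_of_ne M hpq h0.1 h0.2] at h2
    exact zero_ne_one h2
  have h2 : b = p ∨ b = q := by
    by_contra h0
    push Not at h0
    have h3 := E_pr_right M hab hne
    rw [h, E_pr_of_ne M hpq h0.1 h0.2] at h3
    exact zero_ne_one h3
  rcases h1 with rfl | rfl
  · rcases h2 with rfl | rfl
    · exact absurd rfl hne
    · rfl
  · rcases h2 with rfl | rfl
    · rw [Equiv.swap_comm]
    · exact absurd rfl hne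

/-- **F1, the action of `O₂(C_G(n))` on the points**, for all duads. -/
theorem L_all {D : Subgroup G} (hD : SitD S P V D M) (hTT : TTAll hD.toSit) {p q : Pt k m} (hpq : p.1 = q.1)
    (hne : p ≠ q) : ∀ g ∈ o2 (centralizer ({pr M p q} : Set G)), g ∈ P ∧ (pp M g = 1 ∨ pp M g = Equiv.swap p q) := by
  have h : Sit S P V M := hD.toSit
  obtain ⟨μ, ν, F⟩ := exists_fours h
  obtain ⟨c, -, hc⟩ := Half.SymA.exists_third h.hm1 0 0
  set x : Pt k m := (p.1, c) with hx
  have hL : o2 (centralizer ({pr M x (μ x)} : Set G)) ≤ P := by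
    rcases Nat.lt_or_ge 2 m with hm | hm
    · exact L_of h F hm (x := x) hc (hTT μ ν F x hc) (HH_all hD F _)
    · have hm2 : m = 2 := le_antisymm hm h.hm
      subst hm2
      exact LTwo_of hD F (fun y hy => hTT μ ν F y hy) (x := x) hc
  have hT := (hTT μ ν F x hc).2
  obtain ⟨g, hg, h1⟩ := exists_conj_pr h (F.mfst x).symm (F.mne x hc).symm hpq hne
  intro y hy
  have hy0 := hy
  rw [← h1] at hy
  have h2 := conj_o2C g⁻¹ _ hy
  have h3 : g⁻¹ * (g * pr M x (μ x) * g⁻¹) * g⁻¹⁻¹ = pr M x (μ x) := by group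
  rw [h3] at h2
  have h4 : g⁻¹ * y * g⁻¹⁻¹ ∈ P := hL h2
  have h5 : g * (g⁻¹ * y * g⁻¹⁻¹) * g⁻¹ = y := by group
  have hyP : y ∈ P := by
    have h6 := P.mul_mem (P.mul_mem hg h4) (P.inv_mem hg)
    rwa [h5] at h6
  refine ⟨hyP, ?_⟩
  have h6 : pp M y = pp M g * pp M (g⁻¹ * y * g⁻¹⁻¹) * (pp M g)⁻¹ := by
    rw [← h.conj hg h4, h5]
  rcases hT _ h2 h4 with h7 | h7
  · left
    rw [h6, h7, mul_one, mul_inv_cancel]
  · right
    have h8 : pr M (pp M g x) (pp M g (μ x)) = pr M p q := by rw [← h.conj_pr hg (F.mfst x).symm, h1]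
    rw [h6, h7, ← Equiv.swap_apply_apply]
    exact swap_eq_of_pr (h.fst hg (F.mfst x).symm) (fun h0 => F.mne x hc ((pp M g).injective h0).symm) hpq hne h8

/-- the commutator of an element inducing a transposition -/
theorem comm_of_swap (h : Sit S P V M) {p q : Pt k m} (hpq : p.1 = q.1) (hne : p ≠ q) {g : G} (hg : g ∈ P)
    (hp : pp M g = 1 ∨ pp M g = Equiv.swap p q) {v : G} (hv : v ∈ V) :
    (g * v = v * g ∨ ⁅g, v⁆ = pr M p q) ∧ (E M v p = E M v q → g * v = v * g) := by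
  classical
  rcases hp with hp | hp
  · have h1 : g * v = v * g := (h.comm_iff hg hv).2 fun r => by rw [hp]; rfl
    exact ⟨Or.inl h1, fun _ => h1⟩
  · have key : E M v p = E M v q → g * v = v * g := by
      intro h1
      refine (h.comm_iff hg hv).2 fun r => ?_
      rw [hp]
      rcases eq_or_ne r p with rfl | hr
      · rw [Equiv.swap_apply_left, h1]
      · rcases eq_or_ne r q with rfl | hr'
        · rw [Equiv.swap_apply_right, h1]
        · rw [Equiv.swap_apply_of_ne_of_ne hr hr']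
    refine ⟨?_, key⟩
    by_cases h1 : E M v p = E M v q
    · exact Or.inl (key h1)
    · right
      have hgv := h.amb.conj_mem hg hv
      have hv' : v⁻¹ ∈ V := inv_mem hv
      rw [commutatorElement_def]
      refine Half.SymA.inj M (mul_mem hgv hv') (pr_mem M _ _) fun r => ?_
      rw [Half.SymA.E_mul M hgv hv', Half.SymA.E_inv M hv, E_conj' hg hv, hp, Equiv.swap_inv, E_pr M hpq]
      have h2 : E M v p + E M v q = 1 := by
        rcases Half.SymA.zmod2 (E M v p) with h3 | h3 <;> rcases Half.SymA.zmod2 (E M v q) with h4 | h4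
        · exact absurd (h3.trans h4.symm) h1
        · rw [h3, h4]; rfl
        · rw [h3, h4]; rfl
        · exact absurd (h3.trans h4.symm) h1
      rcases eq_or_ne r p with rfl | hr
      · rw [Equiv.swap_apply_left, if_pos rfl, if_neg hne, add_zero, add_comm]
        exact h2
      · rcases eq_or_ne r q with rfl | hr'
        · rw [Equiv.swap_apply_right, if_neg hr, if_pos rfl, zero_add]
          exact h2
        · rw [Equiv.swap_apply_of_ne_of_ne hr hr', if_neg hr, if_neg hr', add_zero]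
          exact CharTwo.add_self_eq_zero _

/-- `U ≤ O₂(C_G(n))` if `U ≤ C_G(n)` and `[U, O₂(C_G(n))] ≤ ⟨n⟩`. -/
theorem le_o2_of_comm (hG : IsCharacteristicTwoType G) {n : G} (hn : n ^ 2 = 1) (hn1 : n ≠ 1) {U : Subgroup G}
    (hU : ∀ u ∈ U, u * n = n * u)
    (hc : ∀ x ∈ o2 (centralizer ({n} : Set G)), ∀ u ∈ U, ⁅x, u⁆ = 1 ∨ ⁅x, u⁆ = n) :
    U ≤ o2 (centralizer ({n} : Set G)) := by
  set C := centralizer ({n} : Set G) with hC
  set W := o2 C with hW
  have hmem : ∀ g, g ∈ C ↔ g * n = n * g := fun g => by rw [hC, mem_centralizer_singleton_iff]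
  have hWC : W ≤ C := o2_le C
  have hCW : C ≤ normalizer (W : Set G) := le_normalizer_o2 C
  have hnn : n * n = 1 := by rw [← pow_two]; exact hn
  -- `C_C(W) ≤ W`
  have hcW : C ⊓ centralizer (W : Set G) ≤ W := by
    have h1 := MinSimple.Basic.char2_normalizer hG (U := zpowers n)
      (IsPGroup.iff_card.2 ⟨1, by rw [Nat.card_zpowers]; exact (orderOf_eq_prime hn hn1).trans (pow_one 2).symm⟩)
      (fun h0 => hn1 (zpowers_eq_bot.1 h0))
    rwa [MinSimple.Basic.normalizer_zpowers_eq hn] at h1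
  let K : Subgroup G :=
    { carrier := {g | g ∈ C ∧ ∀ x ∈ W, ⁅x, g⁆ = 1 ∨ ⁅x, g⁆ = n}
      one_mem' := ⟨one_mem _, fun x _ => Or.inl (commutatorElement_one_right x)⟩
      mul_mem' := by
        rintro a b ⟨ha, ha'⟩ ⟨hb, hb'⟩
        refine ⟨mul_mem ha hb, fun x hx => ?_⟩
        have e : ⁅x, a * b⁆ = ⁅x, a⁆ * (a * ⁅x, b⁆ * a⁻¹) := by
          simp only [commutatorElement_def]
          group
        have h2 : a * ⁅x, b⁆ * a⁻¹ = ⁅x, b⁆ := by
          rcases hb' x hx with h3 | h3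
          · rw [h3, mul_one, mul_inv_cancel]
          · rw [h3, (hmem a).1 ha, mul_inv_cancel_right]
        rw [e, h2]
        rcases ha' x hx with h3 | h3 <;> rcases hb' x hx with h4 | h4 <;> rw [h3, h4]
        · left; rw [mul_one]
        · right; rw [one_mul]
        · right; rw [mul_one]
        · left; exact hnn
      inv_mem' := by
        rintro a ⟨ha, ha'⟩
        refine ⟨inv_mem ha, fun x hx => ?_⟩
        have e : ⁅x, a⁻¹⁆ = a⁻¹ * ⁅x, a⁆⁻¹ * a := by
          simp only [commutatorElement_def]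
          group
        rcases ha' x hx with h3 | h3
        · left; rw [e, h3, inv_one, mul_one, inv_mul_cancel]
        · right
          have h4 : n⁻¹ = n := inv_eq_of_mul_eq_one_left hnn
          rw [e, h3, h4, mul_assoc, ← (hmem a).1 ha, inv_mul_cancel_left] }
  have hK : ∀ g, g ∈ K ↔ g ∈ C ∧ ∀ x ∈ W, ⁅x, g⁆ = 1 ∨ ⁅x, g⁆ = n := fun g => Iff.rfl
  have hUK : U ≤ K := fun u hu => (hK u).2 ⟨(hmem u).2 (hU u hu), fun x hx => hc x hx u hu⟩
  refine hUK.trans (le_o2 (fun g hg => ((hK g).1 hg).1) ?_ ?_)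
  · -- a 2-group
    intro g
    obtain ⟨hgC, hg'⟩ := (hK _).1 g.2
    have h1 : (g : G) * g ∈ W := by
      refine hcW ⟨mul_mem hgC hgC, mem_centralizer_iff.2 fun x hx => ?_⟩
      have h2 : ⁅x, (g : G) * g⁆ = 1 := by
        have e : ⁅x, (g : G) * g⁆ = ⁅x, (g : G)⁆ * (g * ⁅x, (g : G)⁆ * (g : G)⁻¹) := by
          simp only [commutatorElement_def]
          group
        rw [e]
        rcases hg' x hx with h3 | h3
        · rw [h3]; group
        · rw [h3, (hmem _).1 hgC, mul_inv_cancel_right]; exact hnn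
      exact commutatorElement_eq_one_iff_mul_comm.1 h2
    obtain ⟨j, hj⟩ := (o2_isPGroup C) ⟨(g : G) * g, h1⟩
    refine ⟨j + 1, Subtype.ext ?_⟩
    have h2 := congrArg Subtype.val hj
    rw [SubmonoidClass.coe_pow, OneMemClass.coe_one] at h2 ⊢
    change ((g : G) * g) ^ 2 ^ j = 1 at h2
    rw [pow_succ, mul_comm, pow_mul, pow_two]
    exact h2
  · -- normal in `C`
    intro g hg
    refine MinSimple.VModule.mem_normalizer_of_map_le ?_
    rintro _ ⟨a, ha, rfl⟩
    obtain ⟨haC, ha'⟩ := (hK a).1 ha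
    change g * a * g⁻¹ ∈ K
    refine (hK _).2 ⟨C.mul_mem (C.mul_mem hg haC) (C.inv_mem hg), fun x hx => ?_⟩
    have h1 : g⁻¹ * x * g ∈ W := by
      have := (mem_normalizer_iff.1 (hCW (inv_mem hg)) x).1 hx
      rwa [inv_inv] at this
    have e : ⁅x, g * a * g⁻¹⁆ = g * ⁅g⁻¹ * x * g, a⁆ * g⁻¹ := by
      simp only [commutatorElement_def]
      group
    rw [e]
    rcases ha' _ h1 with h2 | h2
    · left; rw [h2, mul_one, mul_inv_cancel]
    · right; rw [h2, (hmem g).1 hg, mul_inv_cancel_right]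

/-! ### The labels -/

section lab

variable {M : SymK (S : Subgroup G) P (zl (S : Subgroup G) P) (cv (S : Subgroup G) P) k m}
  {ε : Fin k → (Fin (2 ^ m + 1) → ZMod 2) → G}

theorem sitD_of_lb (hG : IsCharacteristicTwoType G) (hP : IsParS (S : Subgroup G) P) (hL : Lb M ε) (hk : 0 < k)
    (hm : 2 ≤ m) : SitD S P hL.A (cv (S : Subgroup G) P) hL.toBot := by
  have hloc := hP.isLoc
  have hamb := Half.amb_of_loc hG S hloc
  have hDV : cv (S : Subgroup G) P ≤ zl (S : Subgroup G) P := inf_le_left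
  have hcom : ∀ g ∈ P, (∀ a ∈ hL.A, a * g = g * a) → ∀ v ∈ zl (S : Subgroup G) P, v * g = g * v := by
    intro g hg h0 v hv
    obtain ⟨d, hd, e⟩ := hL.dec hv
    have h1 := h0 _ (hL.pl_mem_A (M.e v))
    have h2 := hL.cen g hg d hd
    rw [e, mul_assoc, h1, ← mul_assoc, ← h2, mul_assoc]
  refine ⟨⟨⟨hloc.le, hL.A_le.trans hamb.VT, hL.nor_A,
    fun a ha b hb => hamb.comm a (hL.A_le ha) b (hL.A_le hb), fun a ha => hamb.sq a (hL.A_le ha)⟩, hm, hk,
    hL.A_le.trans (hloc.zl_le S hG), ?_, ?_, ?_⟩, hDV.trans (hloc.zl_le S hG), hL.cen, hL.inf,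
    hamb.zc.trans (le_of_eq (by rw [sup_comm, hL.sup]))⟩
  · rw [← hP.inf_centralizer S hG]
    refine le_antisymm (inf_le_inf_left _ (centralizer_le hL.A_le)) fun s hs => ⟨hs.1, mem_centralizer_iff.2 ?_⟩
    exact hcom s (hloc.le hs.1) (mem_centralizer_iff.1 hs.2)
  · have h1 := MinSimple.Basic.char2_normalizer hG (o2_isPGroup P) hP.o2_ne
    have h2 : o2 (normalizer (o2 P : Set G)) ≤ o2 P := o2_le_o2 S hP.le (le_normalizer_o2 P)
    have h3 : centralizer (o2 P : Set G) ≤ normalizer (o2 P : Set G) := centralizer_le_normalizer _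
    exact (le_inf h3 (centralizer_le h2)).trans (h1.trans h2)
  · refine le_trans ?_ (LFour.le_centralizer_zc_o2 hG S hP)
    rintro g ⟨hgP, hg⟩
    exact ⟨hgP, mem_centralizer_iff.2 (hcom g hgP (mem_centralizer_iff.1 hg))⟩

theorem du_eq_pr (hL : Lb M ε) (i : Fin k) (a b : Fin (2 ^ m + 1)) :
    du ε i a b = pr hL.toBot ((i, a) : Pt k m) (i, b) := by
  classical
  refine hL.inj (hL.du_mem_A i a b) (pr_mem hL.toBot _ _) ?_
  rw [hL.e_du]
  funext j y
  have h1 : M.e (pr hL.toBot ((i, a) : Pt k m) (i, b)) j y = E hL.toBot (pr hL.toBot ((i, a) : Pt k m) (i, b)) (j, y) := rfl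
  rw [h1, E_pr hL.toBot (p := ((i, a) : Pt k m)) (q := (i, b)) rfl]
  by_cases hj : j = i
  · subst hj
    rw [Pi.single_eq_same, Pi.add_apply, Pi.single_apply, Pi.single_apply]
    simp only [Prod.mk.injEq, true_and]
  · rw [Pi.single_eq_of_ne hj]
    simp only [Prod.mk.injEq, hj, false_and, if_false, add_zero]
    rfl

/-- **F1 for all `k`, `m`, `D`**, from (T). -/
theorem fOne_of (hG : IsCharacteristicTwoType G) (hP : IsParS (S : Subgroup G) P) (hL : Lb M ε) (hk : 0 < k)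
    (hm : 2 ≤ m) (hTT : TTAll (sitD_of_lb hG hP hL hk hm).toSit) : FOne M ε := by
  have hD := sitD_of_lb hG hP hL hk hm
  have key : ∀ (i : Fin k) (a b : Fin (2 ^ m + 1)), a ≠ b → ∀ x ∈ o2 (centralizer ({du ε i a b} : Set G)),
      ∀ v ∈ zl (S : Subgroup G) P, (⁅x, v⁆ = 1 ∨ ⁅x, v⁆ = du ε i a b) ∧ (M.e v i a = M.e v i b → x * v = v * x) := by
    intro i a b hab x hx v hv
    have hne : ((i, a) : Pt k m) ≠ (i, b) := fun h0 => hab (congrArg Prod.snd h0)
    have hdu := du_eq_pr hL i a b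
    rw [hdu] at hx ⊢
    have h11 : ((i, a) : Pt k m).1 = ((i, b) : Pt k m).1 := rfl
    obtain ⟨hxP, hx2⟩ := L_all (M := hL.toBot) hD hTT (p := (i, a)) (q := (i, b)) h11 hne x hx
    have h1 := comm_of_swap (M := hL.toBot) hD.toSit (p := (i, a)) (q := (i, b)) h11 hne hxP hx2
      (hL.pl_mem_A (M.e v))
    have h2 : ∀ j y, E hL.toBot (hL.pl (M.e v)) (j, y) = M.e v j y := by
      intro j y
      obtain ⟨d, hd, e⟩ := hL.dec hv
      have h3 : M.e (hL.pl (M.e v)) = M.e v := by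
        nth_rw 2 [e]
        rw [M.mul d (hL.DV hd) _ (hL.pl_mem _), (M.ker d (hL.DV hd)).2 hd, zero_add]
      change M.e (hL.pl (M.e v)) j y = _
      rw [h3]
    rw [hL.comm_eq hxP hv]
    constructor
    · rcases h1.1 with h3 | h3
      · left; exact commutatorElement_eq_one_iff_mul_comm.2 h3
      · right; exact h3
    · intro h3
      have h4 := h1.2 (by rw [h2, h2]; exact h3)
      have h5 : ⁅x, v⁆ = 1 := by
        rw [hL.comm_eq hxP hv]
        exact commutatorElement_eq_one_iff_mul_comm.2 h4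
      exact commutatorElement_eq_one_iff_mul_comm.1 h5
  refine ⟨fun i a b hab => ?_, fun i a b hab x hx v hv => (key i a b hab x hx v hv).1,
    fun i a b hab x hx v hv => (key i a b hab x hx v hv).2⟩
  refine le_o2_of_comm hG (by rw [pow_two]; exact hL.du_mul_self i a b) (hL.du_ne_one hab) (fun u hu => ?_)
    fun x hx u hu => (key i a b hab x hx u hu).1
  exact hL.comm u hu _ (hL.du_mem i a b)

end lab

end Cfsg.Agent.Omega.IId.SymWrD
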