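import Cfsg.Agent.Omega.IId.SymWrD.LThm
import Cfsg.Agent.Omega.IId.SymWr.EThmE
import Cfsg.Agent.Omega.IId.SymWr.Halve
import Cfsg.Agent.Omega.IId.LFour.Fac

/-!
# II.d, `SwBig`, `SwCv` (copy of `SymWr/Mod.lean` for `D` arbitrary): `Ω₁(Z(O₂(P)))` as a module; (E) and (HH) of THEOREM L (bb OMEGA #17498)

* `ZM P` : `Ω₁(Z(O₂(P)))`, additive; `Gam h` : the image of `P` in the permutations of the points, acting on `ZM P`;
* `edat` : the hypotheses of (E);
* `HH_all` : the conclusion `HH h F l` of (HH), for every summand.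
-/

set_option autoImplicit false

namespace Cfsg.Agent.Omega.IId.SymWrD

open Cfsg.Agent.Omega.IId.SymWr
open Subgroup Pointwise Cfsg Cfsg.Agent.ZN Cfsg.Agent.Omega.MinPar Cfsg.Agent.Omega.FFThm
open Cfsg.Agent.Omega.Half (Amb amb_of_loc)
open Cfsg.Agent.Omega.Half.SymA (Pt E Mv pm)
open Cfsg.Agent.MinSimple.VModule (mem_zc zc_le zc_comm zc_sq zc_le_zl le_normalizer_o2 o2_isPGroup o2_le
  normalizer_le_normalizer_zc le_normalizer_zl)
open Cfsg.Agent.Omega.IId.LFour (SymF.lab SymF.lab_mem SymF.e_lab SymF.lab_add SymF.lab_eq_one_iff)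

universe u

variable {G : Type u} [Group G] {P V : Subgroup G} {k m : ℕ}

/-! ### The module -/

/-- `Ω₁(Z(O₂(P)))` -/
@[ext] structure ZM (P : Subgroup G) where
  /-- the element of `G` -/
  val : G
  mem : val ∈ zc (o2 P)

namespace ZM

instance : Add (ZM P) := ⟨fun x y => ⟨x.val * y.val, mul_mem x.mem y.mem⟩⟩
instance : Zero (ZM P) := ⟨⟨1, one_mem _⟩⟩
instance : Neg (ZM P) := ⟨fun x => ⟨x.val⁻¹, inv_mem x.mem⟩⟩

theorem val_add (x y : ZM P) : (x + y).val = x.val * y.val := rfl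
theorem val_zero : (0 : ZM P).val = 1 := rfl
theorem val_neg (x : ZM P) : (-x).val = x.val⁻¹ := rfl

instance : AddCommGroup (ZM P) where
  add_assoc x y z := ZM.ext (mul_assoc _ _ _)
  zero_add x := ZM.ext (one_mul _)
  add_zero x := ZM.ext (mul_one _)
  neg_add_cancel x := ZM.ext (inv_mul_cancel _)
  add_comm x y := ZM.ext (Sit.zz_comm x.mem y.mem)
  nsmul := nsmulRec
  zsmul := zsmulRec

theorem add_self (y : ZM P) : y + y = 0 := ZM.ext (Sit.zz_sq y.mem)

end ZM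

variable {S : Sylow 2 G} {M : SymK (S : Subgroup G) P V ⊥ k m}

/-- the image of `P` in the permutations of the points -/
noncomputable abbrev Gam (h : Sit S P V M) : Subgroup (Equiv.Perm (Pt k m)) := (hom h.amb h.hm1 M).range

theorem Gam_ex (h : Sit S P V M) (γ : Gam h) : ∃ g ∈ P, pp M g = γ := by
  obtain ⟨g, hg⟩ := γ.2
  exact ⟨g, g.2, hg⟩

theorem mem_Gam (h : Sit S P V M) {g : G} (hg : g ∈ P) : pp M g ∈ Gam h := ⟨⟨g, hg⟩, rfl⟩

/-- a preimage in `P` -/
noncomputable def lft (h : Sit S P V M) (γ : Gam h) : G := (Gam_ex h γ).choose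

theorem lft_mem (h : Sit S P V M) (γ : Gam h) : lft h γ ∈ P := (Gam_ex h γ).choose_spec.1

theorem pp_lft (h : Sit S P V M) (γ : Gam h) : pp M (lft h γ) = γ := (Gam_ex h γ).choose_spec.2

noncomputable instance actG (h : Sit S P V M) : DistribMulAction (Gam h) (ZM P) where
  smul γ y := ⟨lft h γ * y.val * (lft h γ)⁻¹, Sit.zz_conj (lft_mem h γ) y.mem⟩
  one_smul y := by
    apply ZM.ext
    change lft h 1 * y.val * (lft h 1)⁻¹ = y.val
    rw [h.zz_eq (lft_mem h 1) (one_mem P) (by rw [pp_lft, h.one]; rfl) y.mem, one_mul, inv_one, mul_one]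
  mul_smul γ δ y := by
    apply ZM.ext
    change lft h (γ * δ) * y.val * (lft h (γ * δ))⁻¹ =
      lft h γ * (lft h δ * y.val * (lft h δ)⁻¹) * (lft h γ)⁻¹
    rw [h.zz_eq (lft_mem h (γ * δ)) (mul_mem (lft_mem h γ) (lft_mem h δ))
      (by rw [h.mul (lft_mem h γ) (lft_mem h δ), pp_lft, pp_lft, pp_lft]; rfl) y.mem]
    group
  smul_zero γ := by
    apply ZM.ext
    change lft h γ * 1 * (lft h γ)⁻¹ = 1
    group
  smul_add γ x y := by
    apply ZM.ext
    change lft h γ * (x.val * y.val) * (lft h γ)⁻¹ =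
      lft h γ * x.val * (lft h γ)⁻¹ * (lft h γ * y.val * (lft h γ)⁻¹)
    group

theorem smul_val (h : Sit S P V M) {γ : Gam h} {g : G} (hg : g ∈ P) (hgγ : pp M g = γ) (y : ZM P) :
    (γ • y).val = g * y.val * g⁻¹ :=
  h.zz_eq (lft_mem h γ) hg (by rw [pp_lft, hgγ]) y.mem

theorem smul_eq_iff (h : Sit S P V M) {γ : Gam h} {g : G} (hg : g ∈ P) (hgγ : pp M g = γ) (y : ZM P) :
    γ • y = y ↔ g * y.val = y.val * g := by
  rw [ZM.ext_iff, smul_val h hg hgγ, mul_inv_eq_iff_eq_mul]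

/-- the action on the summands -/
def bl (γ : Equiv.Perm (Pt k m)) (hγ : ∀ p q : Pt k m, p.1 = q.1 → (γ p).1 = (γ q).1)
    (hγ' : ∀ p q : Pt k m, p.1 = q.1 → (γ.symm p).1 = (γ.symm q).1) : Equiv.Perm (Fin k) where
  toFun i := (γ (i, 0)).1
  invFun i := (γ.symm (i, 0)).1
  left_inv i := by
    have h1 := hγ' ((γ (i, 0)).1, 0) (γ (i, 0)) rfl
    rw [γ.symm_apply_apply] at h1
    exact h1
  right_inv i := by
    have h1 := hγ ((γ.symm (i, 0)).1, 0) (γ.symm (i, 0)) rfl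
    rw [γ.apply_symm_apply] at h1
    exact h1

theorem Gam_fst (h : Sit S P V M) (γ : Gam h) {p q : Pt k m} (hpq : p.1 = q.1) :
    ((γ : Equiv.Perm (Pt k m)) p).1 = ((γ : Equiv.Perm (Pt k m)) q).1 := by
  rw [← pp_lft h γ]
  exact h.fst (lft_mem h γ) hpq

theorem Gam_fst' (h : Sit S P V M) (γ : Gam h) {p q : Pt k m} (hpq : p.1 = q.1) :
    ((γ : Equiv.Perm (Pt k m)).symm p).1 = ((γ : Equiv.Perm (Pt k m)).symm q).1 :=
  Gam_fst h γ⁻¹ hpq

/-- the action of `Gam h` on the summands -/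
def aa (h : Sit S P V M) (γ : Gam h) : Equiv.Perm (Fin k) :=
  bl γ (fun _ _ hpq => Gam_fst h γ hpq) (fun _ _ hpq => Gam_fst' h γ hpq)

theorem aa_apply (h : Sit S P V M) (γ : Gam h) (p : Pt k m) : aa h γ p.1 = ((γ : Equiv.Perm (Pt k m)) p).1 :=
  Gam_fst h γ rfl

/-- the image of `S` -/
noncomputable def SS (h : Sit S P V M) : Subgroup (Gam h) := ((S : Subgroup G).subgroupOf P).map (hom h.amb h.hm1 M).rangeRestrict

theorem mem_SS (h : Sit S P V M) {γ : Gam h} : γ ∈ SS h ↔ ∃ s ∈ (S : Subgroup G), pp M s = γ := by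
  constructor
  · rintro ⟨s, hs, rfl⟩
    exact ⟨s, mem_subgroupOf.1 hs, rfl⟩
  · rintro ⟨s, hs, h1⟩
    exact ⟨⟨s, h.SP hs⟩, mem_subgroupOf.2 hs, Subtype.ext h1⟩

/-- the permutations which fix the points outside the summand `i` -/
noncomputable def BB (h : Sit S P V M) (i : Fin k) : Subgroup (Gam h) where
  carrier := {γ | ∀ p : Pt k m, p.1 ≠ i → (γ : Equiv.Perm (Pt k m)) p = p}
  mul_mem' := by
    intro a b ha hb p hp
    change (a : Equiv.Perm (Pt k m)) ((b : Equiv.Perm (Pt k m)) p) = p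
    rw [hb p hp, ha p hp]
  one_mem' := fun p _ => rfl
  inv_mem' := by
    intro a ha p hp
    change (a : Equiv.Perm (Pt k m)).symm p = p
    rw [Equiv.symm_apply_eq, ha p hp]

theorem mem_BB (h : Sit S P V M) {i : Fin k} {γ : Gam h} :
    γ ∈ BB h i ↔ ∀ p : Pt k m, p.1 ≠ i → (γ : Equiv.Perm (Pt k m)) p = p := Iff.rfl

theorem BB_fst (h : Sit S P V M) {i : Fin k} {γ : Gam h} (hγ : γ ∈ BB h i) (p : Pt k m) :
    ((γ : Equiv.Perm (Pt k m)) p).1 = p.1 := by
  by_cases hp : p.1 = i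
  · by_contra h1
    have h2 : ((γ : Equiv.Perm (Pt k m)) p).1 ≠ i := by rw [← hp]; exact h1
    have h3 := hγ _ h2
    exact h1 (congrArg Prod.fst ((γ : Equiv.Perm (Pt k m)).injective h3))
  · rw [hγ p hp]

/-! ### Elements of `V` -/

/-- an element of `V` with a given support function -/
theorem exists_ZM (h : Sit S P V M) (f : Pt k m → ZMod 2) (hf : ∀ i, ∑ x, f (i, x) = 0) :
    ∃ v : ZM P, v.val ∈ V ∧ ∀ p, E M v.val p = f p := by
  obtain ⟨v, hv, h1⟩ := Half.SymA.exists_E M f hf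
  exact ⟨⟨v, h.VZ hv⟩, hv, h1⟩

theorem E_smul (h : Sit S P V M) (γ : Gam h) {v : ZM P} (hv : v.val ∈ V) (p : Pt k m) :
    E M (γ • v).val p = E M v.val ((γ : Equiv.Perm (Pt k m)).symm p) := by
  rw [smul_val h (lft_mem h γ) (pp_lft h γ), E_conj' (lft_mem h γ) hv, pp_lft]
  rfl

theorem smul_mem_V (h : Sit S P V M) (γ : Gam h) {v : ZM P} (hv : v.val ∈ V) : (γ • v).val ∈ V := by
  rw [smul_val h (lft_mem h γ) (pp_lft h γ)]
  exact h.amb.conj_mem (lft_mem h γ) hv

theorem eq_of_E (h : Sit S P V M) {v w : ZM P} (hv : v.val ∈ V) (hw : w.val ∈ V) (hE : ∀ p, E M v.val p = E M w.val p) :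
    v = w := ZM.ext (Half.SymA.inj M hv hw hE)

theorem sum_ne_zero (hm : 1 ≤ m) : ∑ x : Fin (2 ^ m + 1), (if x = 0 then (0 : ZMod 2) else 1) = 0 := by
  have h1 : ∀ x : Fin (2 ^ m + 1), (if x = 0 then (0 : ZMod 2) else 1) = 1 + if x = 0 then 1 else 0 := by
    intro x
    split_ifs
    · rfl
    · rfl
  rw [Finset.sum_congr rfl fun x _ => h1 x, Finset.sum_add_distrib, Finset.sum_const, Finset.card_univ,
    Fintype.card_fin, Finset.sum_ite_eq' Finset.univ (0 : Fin (2 ^ m + 1)), if_pos (Finset.mem_univ _),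
    nsmul_eq_mul, mul_one, Nat.cast_add, Nat.cast_one]
  have h6 : ((2 ^ m : ℕ) : ZMod 2) = 0 := by
    rw [ZMod.natCast_eq_zero_iff]
    exact dvd_pow_self 2 (by omega)
  rw [h6]
  rfl

/-- the vector `σ_i`: the nonzero points of the summand `i` -/
theorem exists_sg (h : Sit S P V M) (i : Fin k) :
    ∃ v : ZM P, v.val ∈ V ∧ ∀ p : Pt k m, E M v.val p = if p.1 = i then (if p.2 = 0 then 0 else 1) else 0 := by
  apply exists_ZM h
  intro j
  by_cases hj : j = i
  · simp only [hj, if_true]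
    exact sum_ne_zero h.hm1
  · simp only [if_neg hj, Finset.sum_const_zero]

/-- the vector `σ_i` -/
noncomputable def sg (h : Sit S P V M) (i : Fin k) : ZM P := (exists_sg h i).choose

theorem sg_mem (h : Sit S P V M) (i : Fin k) : (sg h i).val ∈ V := (exists_sg h i).choose_spec.1

theorem E_sg (h : Sit S P V M) (i : Fin k) (p : Pt k m) :
    E M (sg h i).val p = if p.1 = i then (if p.2 = 0 then 0 else 1) else 0 := (exists_sg h i).choose_spec.2 p

/-- the vector `z` -/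
theorem exists_zv (h : Sit S P V M) :
    ∃ v : ZM P, v.val ∈ V ∧ ∀ p : Pt k m, E M v.val p = if p.2 = 0 then 0 else 1 := by
  apply exists_ZM h
  intro j
  exact sum_ne_zero h.hm1

/-- the vector `z` -/
noncomputable def zv (h : Sit S P V M) : ZM P := (exists_zv h).choose

theorem zv_mem (h : Sit S P V M) : (zv h).val ∈ V := (exists_zv h).choose_spec.1

theorem E_zv (h : Sit S P V M) (p : Pt k m) : E M (zv h).val p = if p.2 = 0 then 0 else 1 :=
  (exists_zv h).choose_spec.2 p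

theorem sum_sg (h : Sit S P V M) (s : Finset (Fin k)) :
    (∑ i ∈ s, sg h i).val ∈ V ∧
      ∀ p : Pt k m, E M (∑ i ∈ s, sg h i).val p = if p.1 ∈ s then (if p.2 = 0 then 0 else 1) else 0 := by
  classical
  induction s using Finset.induction_on with
  | empty =>
    refine ⟨by rw [Finset.sum_empty]; exact one_mem V, fun p => ?_⟩
    rw [Finset.sum_empty, ZM.val_zero, Half.SymA.E_one]
    simp
  | insert a s ha ih =>
    refine ⟨by rw [Finset.sum_insert ha, ZM.val_add]; exact mul_mem (sg_mem h a) ih.1, fun p => ?_⟩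
    rw [Finset.sum_insert ha, ZM.val_add, Half.SymA.E_mul M (sg_mem h a) ih.1, E_sg, ih.2]
    by_cases h1 : p.1 = a
    · have h2 : p.1 ∉ s := by rw [h1]; exact ha
      have h3 : p.1 ∈ insert a s := by rw [h1]; exact Finset.mem_insert_self _ _
      rw [if_pos h1, if_neg h2, add_zero, if_pos h3]
    · rw [if_neg h1, zero_add]
      by_cases h2 : p.1 ∈ s
      · rw [if_pos h2, if_pos (Finset.mem_insert_of_mem h2)]
      · rw [if_neg h2, if_neg]
        rw [Finset.mem_insert, not_or]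
        exact ⟨h1, h2⟩

/-- the summand `i` -/
def VV (h : Sit S P V M) (i : Fin k) : AddSubgroup (ZM P) where
  carrier := {v | v.val ∈ V ∧ ∀ p : Pt k m, p.1 ≠ i → E M v.val p = 0}
  add_mem' := by
    rintro a b ⟨ha, h1⟩ ⟨hb, h2⟩
    refine ⟨mul_mem ha hb, fun p hp => ?_⟩
    rw [ZM.val_add, Half.SymA.E_mul M ha hb, h1 p hp, h2 p hp, add_zero]
  zero_mem' := ⟨one_mem V, fun p _ => Half.SymA.E_one M p⟩
  neg_mem' := by
    rintro a ⟨ha, h1⟩
    refine ⟨inv_mem ha, fun p hp => ?_⟩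
    rw [ZM.val_neg, Half.SymA.E_inv M ha, h1 p hp]

/-! ### (E) -/

section edat

variable [Finite G]

instance : Finite (ZM P) := Finite.of_injective (fun y : ZM P => y.val) fun _ _ h => ZM.ext h

theorem not_dvd_SS (h : Sit S P V M) : ¬ 2 ∣ (SS h).index := by
  have : Fact (Nat.Prime 2) := ⟨Nat.prime_two⟩
  have hsurj : Function.Surjective (hom h.amb h.hm1 M).rangeRestrict := MonoidHom.rangeRestrict_surjective _
  set S1 : Sylow 2 P := S.subtype h.SP with hS1
  have h1 := (S1.mapSurjective hsurj).not_dvd_index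
  exact h1

/-- the permutations which fix all summands -/
noncomputable def G0 (h : Sit S P V M) : Subgroup (Gam h) where
  carrier := {γ | ∀ p : Pt k m, ((γ : Equiv.Perm (Pt k m)) p).1 = p.1}
  mul_mem' := by
    intro a b ha hb p
    change ((a : Equiv.Perm (Pt k m)) ((b : Equiv.Perm (Pt k m)) p)).1 = p.1
    rw [ha, hb]
  one_mem' := fun p => rfl
  inv_mem' := by
    intro a ha p
    change ((a : Equiv.Perm (Pt k m)).symm p).1 = p.1
    rw [← ha ((a : Equiv.Perm (Pt k m)).symm p), Equiv.apply_symm_apply]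

theorem BB_le (h : Sit S P V M) (i : Fin k) : BB h i ≤ G0 h := fun _ hγ p => BB_fst h hγ p

theorem oddB (h : Sit S P V M) (i : Fin k) : Odd ((SS h).relIndex (BB h i)) := by
  have h1 : ¬ 2 ∣ (SS h).relIndex ⊤ := by rw [relIndex_top_right]; exact not_dvd_SS h
  have h2 : (⊤ : Subgroup (Gam h)) ≤ normalizer (G0 h : Set (Gam h)) := by
    intro γ _
    refine MinSimple.VModule.mem_normalizer_of_map_le ?_
    rintro _ ⟨b, hb, rfl⟩
    intro p
    change ((γ : Equiv.Perm (Pt k m)) ((b : Equiv.Perm (Pt k m)) ((γ : Equiv.Perm (Pt k m)).symm p))).1 = p.1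
    rw [Gam_fst h γ (hb _), Equiv.apply_symm_apply]
  have h3 := NO3b.UMethod.not_dvd_inf le_top h1 le_top h2
  have h4 : G0 h ≤ normalizer (BB h i : Set (Gam h)) := by
    intro γ hγ
    refine MinSimple.VModule.mem_normalizer_of_map_le ?_
    rintro _ ⟨b, hb, rfl⟩
    intro p hp
    change (γ : Equiv.Perm (Pt k m)) ((b : Equiv.Perm (Pt k m)) ((γ : Equiv.Perm (Pt k m)).symm p)) = p
    have h5 : ((γ : Equiv.Perm (Pt k m)).symm p).1 = p.1 := (G0 h).inv_mem hγ p
    rw [hb _ (by rw [h5]; exact hp), Equiv.apply_symm_apply]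
  have h5 := NO3b.UMethod.not_dvd_inf inf_le_left h3 (BB_le h i) h4
  have h6 : BB h i ⊓ (G0 h ⊓ SS h) = BB h i ⊓ SS h := by
    rw [← inf_assoc, inf_eq_left.2 (BB_le h i)]
  rw [h6, inf_comm, inf_relIndex_right] at h5
  rw [← Nat.not_even_iff_odd, even_iff_two_dvd]
  exact h5

theorem fix_iff (h : Sit S P V M) (s : G) (hs : s ∈ P) (y : ZM P) :
    (⟨pp M s, mem_Gam h hs⟩ : Gam h) • y = y ↔ s * y.val = y.val * s := smul_eq_iff h hs rfl y

/-- the fixed points of `S` in `V` -/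
theorem fixS_V (h : Sit S P V M) {y : ZM P} (hy : ∀ s ∈ SS h, s • y = y) (h2 : y.val ∈ V) : y = 0 ∨ y = zv h := by
  have h1 : ∀ s ∈ (S : Subgroup G), s * y.val = y.val * s := fun s hs =>
    (fix_iff h s (h.SP hs) y).1 (hy _ ((mem_SS h).2 ⟨s, hs, rfl⟩))
  have h3 : ∀ p q : Pt k m, p.2 ≠ 0 → q.2 ≠ 0 → E M y.val p = E M y.val q := by
    intro p q hp hq
    obtain ⟨s, hs, h4⟩ := h.trans hp hq
    rw [← h4, (h.comm_iff (h.SP hs) h2).1 (h1 s hs)]
  have hne : ∃ x : Fin (2 ^ m + 1), x ≠ 0 := by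
    obtain ⟨c, -, hc⟩ := Half.SymA.exists_third h.hm1 0 0
    exact ⟨c, hc⟩
  obtain ⟨x0, hx0⟩ := hne
  set c := E M y.val (⟨0, h.hk⟩, x0) with hc
  have h4 : ∀ p : Pt k m, p.2 ≠ 0 → E M y.val p = c := fun p hp => h3 _ _ hp hx0
  have h5 : ∀ p : Pt k m, p.2 = 0 → E M y.val p = 0 := by
    intro p hp
    have h6 := Half.SymA.even0 M h.hm1 h2 (i := p.1) (c := c) fun x hx => h4 _ hx
    have h7 : p = (p.1, 0) := Prod.ext rfl hp
    rw [h7]
    exact h6
  rcases Half.SymA.zmod2 c with h6 | h6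
  · left
    refine eq_of_E h h2 (one_mem V) fun p => ?_
    rw [ZM.val_zero, Half.SymA.E_one]
    by_cases hp : p.2 = 0
    · exact h5 p hp
    · rw [h4 p hp, h6]
  · right
    refine eq_of_E h h2 (zv_mem h) fun p => ?_
    rw [E_zv]
    by_cases hp : p.2 = 0
    · rw [if_pos hp]; exact h5 p hp
    · rw [if_neg hp, h4 p hp, h6]

theorem SS_snd (h : Sit S P V M) {γ : Gam h} (hγ : γ ∈ SS h) (p : Pt k m) :
    ((γ : Equiv.Perm (Pt k m)) p).2 = 0 ↔ p.2 = 0 := by
  obtain ⟨s, hs, h1⟩ := (mem_SS h).1 hγ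
  rw [← h1]
  exact h.snd hs

theorem SS_two (h : Sit S P V M) : IsPGroup 2 (SS h) := by
  have h1 : IsPGroup 2 ((S : Subgroup G).subgroupOf P) := S.isPGroup'.comap_of_injective _ P.subtype_injective
  exact h1.map _

/-- `D`, additive -/
def D0 (P D : Subgroup G) : AddSubgroup (ZM P) where
  carrier := {y | y.val ∈ D}
  add_mem' := fun {_ _} ha hb => D.mul_mem ha hb
  zero_mem' := D.one_mem
  neg_mem' := fun {_} ha => D.inv_mem ha

omit [Finite G] in
theorem mem_D0 {D : Subgroup G} {y : ZM P} : y ∈ D0 P D ↔ y.val ∈ D := Iff.rfl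

/-- the fixed points of `S` on `Ω₁(Z(O₂(P)))` -/
theorem fixS {D : Subgroup G} (h : SitD S P V D M) {y : ZM P} (hy : ∀ s ∈ SS h.toSit, s • y = y) :
    y ∈ D0 P D ∨ y + zv h.toSit ∈ D0 P D := by
  have h1 : ∀ s ∈ (S : Subgroup G), s * y.val = y.val * s := fun s hs =>
    (fix_iff h.toSit s (h.SP hs) y).1 (hy _ ((mem_SS h.toSit).2 ⟨s, hs, rfl⟩))
  have h2 : y.val ∈ V ⊔ D := h.zcVD (mem_zc.2 ⟨h.QS (zc_le _ y.mem), h1, by
    rw [pow_two]; exact Sit.zz_sq y.mem⟩)
  have h3 : D ≤ centralizer (V : Set G) := fun d hd => mem_centralizer_iff.2 fun v hv =>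
    Sit.zz_comm (h.VZ hv) (h.DZ hd)
  have h4 : y.val ∈ ((V ⊔ D : Subgroup G) : Set G) := h2
  rw [coe_mul_of_right_le_normalizer_left V D (h3.trans (centralizer_le_normalizer _))] at h4
  obtain ⟨v, hv, d, hd, hvd⟩ := Set.mem_mul.1 h4
  set v' : ZM P := ⟨v, h.VZ hv⟩ with hv'
  set d' : ZM P := ⟨d, h.DZ hd⟩ with hd'
  have h5 : y = v' + d' := ZM.ext hvd.symm
  have h6 : ∀ s ∈ SS h.toSit, s • v' = v' := by
    intro s hs
    obtain ⟨t, ht, h7⟩ := (mem_SS h.toSit).1 hs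
    have h8 : s • d' = d' := (smul_eq_iff h.toSit (h.SP ht) h7 d').2 (h.cenD t (h.SP ht) d hd)
    have h9 := hy s hs
    rw [h5, smul_add, h8] at h9
    exact add_right_cancel h9
  have h7 : d' ∈ D0 P D := hd
  rcases fixS_V h.toSit h6 hv with h8 | h8
  · left
    rw [h5, h8, zero_add]
    exact h7
  · right
    have h9 : y + zv h.toSit = d' := by
      rw [h5, h8, add_comm (zv h.toSit) d', add_assoc, ZM.add_self, add_zero]
    rw [h9]
    exact h7

theorem edat {D : Subgroup G} (hD : SitD S P V D M) : EDatE (SS hD.toSit) (BB hD.toSit) (aa hD.toSit) (VV hD.toSit)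
    (sg hD.toSit) (zv hD.toSit) (D0 P D) where
  two := by
    have h1 : IsPGroup 2 ((S : Subgroup G).subgroupOf P) := S.isPGroup'.comap_of_injective _ P.subtype_injective
    exact h1.map _
  add_self := ZM.add_self
  a_mul := by
    intro s _ t _
    ext1 i
    change (((s : Equiv.Perm (Pt k m)) ((t : Equiv.Perm (Pt k m)) (i, 0)))).1 =
      ((s : Equiv.Perm (Pt k m)) ((((t : Equiv.Perm (Pt k m)) (i, 0))).1, 0)).1
    exact Gam_fst hD.toSit s rfl
  trans := by
    intro i j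
    obtain ⟨t, ht, π, hπ, h1⟩ := Half.SymA.trans_sum (M := M) i j
    refine ⟨⟨pp M t, mem_Gam hD.toSit (hD.toSit.SP ht)⟩, (mem_SS hD.toSit).2 ⟨t, ht, rfl⟩, ?_⟩
    change (pp M t (i, 0)).1 = j
    rw [pp_eq hD.toSit.amb hD.toSit.hm1 (hD.toSit.SP ht) hπ]
    exact h1 _ rfl
  conjB := by
    intro s _ i b hb p hp
    change (s : Equiv.Perm (Pt k m)) ((b : Equiv.Perm (Pt k m)) ((s : Equiv.Perm (Pt k m)).symm p)) = p
    rw [hb, Equiv.apply_symm_apply]
    intro h1
    apply hp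
    rw [← h1, aa_apply, Equiv.apply_symm_apply]
  comm := by
    intro i j hij b hb c hc
    apply Subtype.ext
    ext1 p
    change (b : Equiv.Perm (Pt k m)) ((c : Equiv.Perm (Pt k m)) p) =
      (c : Equiv.Perm (Pt k m)) ((b : Equiv.Perm (Pt k m)) p)
    by_cases h1 : p.1 = i
    · have h2 : p.1 ≠ j := by rw [h1]; exact hij
      rw [hc p h2, hc]
      rw [BB_fst hD.toSit hb]
      exact h2
    · rw [hb p h1, hb]
      rw [BB_fst hD.toSit hc]
      exact h1
  oddB := oddB hD.toSit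
  fixS := fun y hy => fixS hD hy
  D_fix := by
    intro i b hb d hd
    obtain ⟨g, hg, h1⟩ := Gam_ex hD.toSit b
    exact (smul_eq_iff hD.toSit hg h1 d).2 (hD.cenD g hg _ hd)
  z_ne := by
    intro h0
    obtain ⟨c, -, hc⟩ := Half.SymA.exists_third hD.toSit.hm1 0 0
    have h1 := E_zv hD.toSit ((⟨0, hD.toSit.hk⟩, c) : Pt k m)
    rw [h0, ZM.val_zero, Half.SymA.E_one, if_neg hc] at h1
    exact zero_ne_one h1
  sg_mem := by
    intro i
    refine ⟨sg_mem hD.toSit i, fun p hp => ?_⟩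
    rw [E_sg, if_neg hp]
  V_inv := by
    rintro i b hb v ⟨hv, h1⟩
    refine ⟨smul_mem_V hD.toSit b hv, fun p hp => ?_⟩
    rw [E_smul hD.toSit b hv]
    have h2 : (b : Equiv.Perm (Pt k m)).symm p = p := by rw [Equiv.symm_apply_eq, hb p hp]
    rw [h2, h1 p hp]
  V_fix := by
    rintro i v ⟨hv, h1⟩ h2
    apply ZM.ext
    refine hD.toSit.eq_one_of_fixed (l := i) hv h1 fun g hg hgi => ?_
    exact (fix_iff hD.toSit g hg v).1 (h2 _ fun p hp => hgi p hp)
  sg_S := by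
    intro s hs i
    refine eq_of_E hD.toSit (smul_mem_V hD.toSit s (sg_mem hD.toSit i)) (sg_mem hD.toSit _) fun p => ?_
    rw [E_smul hD.toSit s (sg_mem hD.toSit i), E_sg, E_sg]
    have h1 : ((s : Equiv.Perm (Pt k m)).symm p).1 = i ↔ p.1 = aa hD.toSit s i := by
      constructor
      · intro h2
        rw [← h2, aa_apply, Equiv.apply_symm_apply]
      · intro h2
        apply (aa hD.toSit s).injective
        rw [aa_apply, Equiv.apply_symm_apply, h2]
    have h2 : ((s : Equiv.Perm (Pt k m)).symm p).2 = 0 ↔ p.2 = 0 := by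
      have h3 := SS_snd hD.toSit hs ((s : Equiv.Perm (Pt k m)).symm p)
      rw [Equiv.apply_symm_apply] at h3
      exact h3.symm
    simp only [h1, h2]
  sg_B := by
    intro i j hij b hb
    refine eq_of_E hD.toSit (smul_mem_V hD.toSit b (sg_mem hD.toSit j)) (sg_mem hD.toSit j) fun p => ?_
    rw [E_smul hD.toSit b (sg_mem hD.toSit j), E_sg, E_sg]
    by_cases hp : p.1 = i
    · have h1 : ((b : Equiv.Perm (Pt k m)).symm p).1 = p.1 := BB_fst hD.toSit ((BB hD.toSit i).inv_mem hb) p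
      rw [if_neg (by rw [h1, hp]; exact hij), if_neg (by rw [hp]; exact hij)]
    · have h2 : (b : Equiv.Perm (Pt k m)).symm p = p := by rw [Equiv.symm_apply_eq, hb p hp]
      rw [h2]
  sum := by
    rw [finsum_eq_sum_of_fintype]
    have h1 := sum_sg hD.toSit Finset.univ
    refine eq_of_E hD.toSit h1.1 (zv_mem hD.toSit) fun p => ?_
    rw [h1.2, E_zv, if_pos (Finset.mem_univ _)]

/-- **(E)** -/
theorem E_main {D : Subgroup G} (hD : SitD S P V D M) (i : Fin k) {x : ZM P}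
    (hx : ∀ s ∈ SS hD.toSit, aa hD.toSit s i = i → s • x = x) :
    ∃ φ : ZM P, (∀ b ∈ BB hD.toSit i, b • φ = φ) ∧ (x = φ ∨ x = φ + sg hD.toSit i) := (edat hD).main i hx

end edat

end Cfsg.Agent.Omega.IId.SymWrD
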