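import Cfsg.Agent.Omega.Half.SymPts

/-!
# Even-subset modules: the action on the points, without `Ω₁(Z(T)) ≤ V` (for `D = C_V(O²(P)) ≠ 1`)

Copies of `Half/SymPts.lean` for `Amb0 T H V` (= `Amb T H V` without the field `zc`).
-/

set_option autoImplicit false

namespace Cfsg.Agent.Omega.Half.SymA

open Subgroup Cfsg Cfsg.Agent.ZN Cfsg.Agent.Omega.FFThm Cfsg.Agent.Omega.MinPar
open Cfsg.Agent.ZN.ChoiceBase hiding mem_zc
open scoped Classical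

universe u

variable {G : Type u} [Group G] {T H V : Subgroup G} {k m : ℕ}

/-- The ambient facts on `V` (`Amb` without `zc T ≤ V`). -/
structure Amb0 (T H V : Subgroup G) : Prop where
  TH : T ≤ H
  VT : V ≤ T
  HV : H ≤ normalizer (V : Set G)
  comm : ∀ a ∈ V, ∀ b ∈ V, a * b = b * a
  sq : ∀ a ∈ V, a ^ 2 = 1

theorem Amb0.conj_mem (h : Amb0 T H V) {g v : G} (hg : g ∈ H) (hv : v ∈ V) : g * v * g⁻¹ ∈ V :=
  (mem_normalizer_iff.1 (h.HV hg) v).1 hv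

theorem _root_.Cfsg.Agent.Omega.Half.Amb.to0 (h : Amb T H V) : Amb0 T H V := ⟨h.TH, h.VT, h.HV, h.comm, h.sq⟩

section amb

variable {M : SymK T H V ⊥ k m} (hA : Amb0 T H V)

include hA

theorem Mv.unique0 (hm : 1 ≤ m) {g : G} {π ρ : Equiv.Perm (Pt k m)} (hπ : Mv M g π) (hρ : Mv M g ρ) (hg : g ∈ H) :
    π = ρ := by
  ext1 p
  by_contra hne
  obtain ⟨w, hw, h1, h2⟩ := sep M hm hne
  have h3 : g⁻¹ * w * g⁻¹⁻¹ ∈ V := hA.conj_mem (inv_mem hg) hw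
  have h4 : g * (g⁻¹ * w * g⁻¹⁻¹) * g⁻¹ = w := by group
  have h5 := hπ _ h3 p
  have h6 := hρ _ h3 p
  rw [h4] at h5 h6
  rw [h1] at h5
  rw [h2, ← h5] at h6
  exact one_ne_zero h6.symm

theorem Mv.mul0 {g h : G} {π ρ : Equiv.Perm (Pt k m)} (hπ : Mv M g π) (hρ : Mv M h ρ) (hh : h ∈ H) :
    Mv M (g * h) (π * ρ) := by
  intro v hv p
  have e1 : g * h * v * (g * h)⁻¹ = g * (h * v * h⁻¹) * g⁻¹ := by group
  rw [e1, Equiv.Perm.mul_apply, hπ _ (hA.conj_mem hh hv), hρ v hv]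

theorem Mv.inv0 {g : G} {π : Equiv.Perm (Pt k m)} (hπ : Mv M g π) (hg : g ∈ H) : Mv M g⁻¹ π⁻¹ := by
  intro v hv p
  have h1 := hπ _ (hA.conj_mem (inv_mem hg) hv) (π⁻¹ p)
  have h2 : g * (g⁻¹ * v * g⁻¹⁻¹) * g⁻¹ = v := by group
  have h3 : π (π⁻¹ p) = p := π.apply_symm_apply p
  rw [h2, h3] at h1
  exact h1.symm

theorem Mv.pow0 {g : G} {π : Equiv.Perm (Pt k m)} (hπ : Mv M g π) (hg : g ∈ H) (n : ℕ) : Mv M (g ^ n) (π ^ n) := by
  induction n with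
  | zero => rw [pow_zero, pow_zero]; exact Mv_one M
  | succ n ih => rw [pow_succ, pow_succ]; exact ih.mul0 hA hπ hg

theorem Mv.conj0 {g h : G} {π ρ : Equiv.Perm (Pt k m)} (hπ : Mv M g π) (hg : g ∈ H) (hρ : Mv M h ρ) (hh : h ∈ H) :
    Mv M (g * h * g⁻¹) (π * ρ * π⁻¹) :=
  (hπ.mul0 hA hρ hh).mul0 hA (hπ.inv0 hA hg) (inv_mem hg)

theorem Mv.fst0 (hm : 1 ≤ m) {g : G} {π : Equiv.Perm (Pt k m)} (hπ : Mv M g π) (hg : g ∈ H) {p q : Pt k m}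
    (hpq : p.1 = q.1) : (π p).1 = (π q).1 := by
  obtain ⟨ρ, hρ, h⟩ := exists_mv (M := M) hg
  rw [hπ.unique0 hA hm hρ hg]
  exact h p q hpq

/-- `T` fixes the zero points -/
theorem Mv.snd0 (hm : 1 ≤ m) {t : G} {π : Equiv.Perm (Pt k m)} (hπ : Mv M t π) (ht : t ∈ T) {p : Pt k m} :
    (π p).2 = 0 ↔ p.2 = 0 := by
  obtain ⟨σ, τ, h⟩ := M.perm t (hA.TH ht)
  have h1 := hπ.unique0 hA hm (mv_pm M h) (hA.TH ht)
  have h2 := M.fix0 t ht σ τ h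
  rw [h1]
  change τ p.1 p.2 = 0 ↔ p.2 = 0
  rw [← (τ p.1).injective.eq_iff (a := p.2) (b := 0), h2]

end amb

/-! ### Transitivity on the points -/

section trans

variable [Finite G] (S : Sylow 2 G) {P : Subgroup G} {M : SymK (S : Subgroup G) P V ⊥ k m}
  (hA : Amb0 (S : Subgroup G) P V)

include hA

theorem exists_cycle0 (hm : 1 ≤ m) : ∃ t ∈ (S : Subgroup G), ∃ π : Equiv.Perm (Pt k m), Mv M t π ∧
    ∀ p q : Pt k m, p.1 = q.1 → p.2 ≠ 0 → q.2 ≠ 0 → ∃ n : ℕ, (π ^ n) p = q := by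
  -- a lift of the cycle
  obtain ⟨h, hh, hact, -⟩ := M.lift fun _ => cy m
  have h1 := mv_pm M hact
  set c : Equiv.Perm (Pt k m) := pm 1 fun _ => cy m with hc
  have hcpow : ∀ n : ℕ, ∀ p : Pt k m, (c ^ n) p = (p.1, ((cy m) ^ n) p.2) := by
    intro n
    induction n with
    | zero => intro p; rfl
    | succ n ih =>
      intro p
      rw [pow_succ, Equiv.Perm.mul_apply, ih, pow_succ, Equiv.Perm.mul_apply]
      rfl
  have hc1 : c ^ (2 ^ m) = 1 := by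
    ext1 p
    rw [hcpow, cy_pow]
    rfl
  -- its 2-part
  obtain ⟨a, N, hN, hord⟩ := Nat.exists_eq_two_pow_mul_odd (orderOf_pos h).ne'
  obtain ⟨u, hu⟩ : ∃ u, N * u ≡ 1 [MOD 2 ^ m] := by
    obtain ⟨u, -, hu⟩ := Nat.exists_mul_mod_eq_of_coprime (n := N) (k := 2 ^ m) 1
      (Nat.Coprime.pow_right m (Nat.coprime_two_right.2 hN)) (by positivity)
    exact ⟨u, hu⟩
  have hcN : c ^ (N * u) = c := by
    have := pow_eq_pow_of_modEq hu hc1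
    rwa [pow_one] at this
  have h2 := h1.pow0 hA hh (N * u)
  rw [hcN] at h2
  have hp2 : IsPGroup 2 (zpowers (h ^ (N * u))) := by
    have e : (h ^ (N * u)) ^ 2 ^ a = 1 := by
      rw [← pow_mul]
      apply orderOf_dvd_iff_pow_eq_one.1
      rw [hord]
      exact ⟨u, by ring⟩
    rintro ⟨x, n, rfl⟩
    refine ⟨a, Subtype.ext ?_⟩
    change ((h ^ (N * u)) ^ n) ^ 2 ^ a = 1
    rw [← zpow_natCast, ← zpow_mul, mul_comm n, zpow_mul, zpow_natCast, e, one_zpow]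
  have hle : zpowers (h ^ (N * u)) ≤ P := zpowers_le.2 (pow_mem hh _)
  obtain ⟨g, hg, hgS⟩ := exists_conj_le S hA.TH hp2 hle
  have h3 := hgS _ (mem_zpowers _)
  obtain ⟨ρ, hρ, hρ1⟩ := exists_mv (M := M) hg
  have h4 := hρ.conj0 hA hg h2 (pow_mem hh _)
  -- `ρ` preserves the zero points
  have h5 : ∀ p : Pt k m, p.2 ≠ 0 → (ρ⁻¹ p).2 ≠ 0 := by
    -- the permutation `ρ c ρ⁻¹` of `S` fixes the zero points, and only them
    have hfix : ∀ i : Fin k, (ρ * c * ρ⁻¹) (i, 0) = (i, 0) := by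
      intro i
      have e1 : ((ρ * c * ρ⁻¹) (i, 0)).2 = 0 := (h4.snd0 hA hm h3).2 rfl
      have e2 : ((ρ * c * ρ⁻¹) (i, 0)).1 = i := by
        have e3 : (c (ρ⁻¹ (i, 0))).1 = (ρ⁻¹ (i, 0)).1 := rfl
        have e4 := hρ1 _ _ e3
        have e5 : ρ (ρ⁻¹ (i, 0)) = (i, 0) := ρ.apply_symm_apply _
        rw [e5] at e4
        exact e4
      exact Prod.ext e2 e1
    -- so `ρ⁻¹ (i, 0)` is a zero point
    have hz : ∀ i : Fin k, (ρ⁻¹ (i, 0)).2 = 0 := by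
      intro i
      by_contra hne
      have e1 : c (ρ⁻¹ (i, 0)) = ρ⁻¹ (i, 0) := by
        have e2 := congrArg (ρ⁻¹ : Equiv.Perm (Pt k m)) (hfix i)
        have e3 : ρ⁻¹ ((ρ * c * ρ⁻¹) (i, 0)) = c (ρ⁻¹ (i, 0)) := ρ.symm_apply_apply _
        rwa [e3] at e2
      obtain ⟨a, ha⟩ := Fin.exists_succ_eq.2 hne
      have e2 : cy m (ρ⁻¹ (i, 0)).2 = (ρ⁻¹ (i, 0)).2 := congrArg Prod.snd e1
      rw [← ha, cy_succ, Fin.succ_inj] at e2
      have e3 : (1 : Fin (2 ^ m)) = 0 := by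
        have := add_eq_left.1 e2
        exact this
      have h7 : 1 < 2 ^ m := Nat.one_lt_two_pow (by omega)
      have e4 := congrArg Fin.val e3
      rw [Fin.val_one', Fin.val_zero, Nat.mod_eq_of_lt h7] at e4
      exact one_ne_zero e4
    intro p hp h0
    -- `ρ⁻¹ p = (a, 0)`, and `ρ (a, 0)` is a zero point by counting: use `ρ⁻¹ (i, 0)` with `i = p.1`
    apply hp
    have e1 := hz p.1
    have e2 : (ρ⁻¹ (p.1, 0)).1 = (ρ⁻¹ p).1 := (hρ.inv0 hA hg).fst0 hA hm (inv_mem hg) rfl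
    have e3 : ρ⁻¹ (p.1, 0) = ρ⁻¹ p := Prod.ext e2 (e1.trans h0.symm)
    have e4 := ρ⁻¹.injective e3
    rw [← e4]
  refine ⟨_, h3, _, h4, fun p q hpq hp hq => ?_⟩
  have h6 : (ρ⁻¹ p).1 = (ρ⁻¹ q).1 := (hρ.inv0 hA hg).fst0 hA hm (inv_mem hg) hpq
  obtain ⟨n, hn⟩ := exists_cy_pow m (h5 p hp) (h5 q hq)
  refine ⟨n, ?_⟩
  rw [conj_pow, Equiv.Perm.mul_apply, Equiv.Perm.mul_apply, hcpow, hn, h6]
  exact ρ.apply_symm_apply q

theorem trans_pts0 (hm : 1 ≤ m) {p q : Pt k m} (hp : p.2 ≠ 0) (hq : q.2 ≠ 0) :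
    ∃ t ∈ (S : Subgroup G), ∃ π, Mv M t π ∧ π p = q := by
  obtain ⟨t, ht, π, hπ, h1⟩ := trans_sum (M := M) p.1 q.1
  obtain ⟨s, hs, ρ, hρ, h2⟩ := exists_cycle0 S hA hm
  have h3 : (π p).2 ≠ 0 := fun h => hp ((hπ.snd0 hA hm ht).1 h)
  obtain ⟨n, hn⟩ := h2 (π p) q (h1 p rfl) h3 hq
  refine ⟨s ^ n * t, mul_mem (pow_mem hs n) ht, ρ ^ n * π, (hρ.pow0 hA (hA.TH hs) n).mul0 hA hπ (hA.TH ht), ?_⟩
  rw [Equiv.Perm.mul_apply, hn]

end trans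

end Cfsg.Agent.Omega.Half.SymA
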