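import Cfsg.Agent.Omega.S5.TT
import Cfsg.Agent.Omega.TwoF.PermRank

/-!
# The rank argument (THEOREM L, bb OMEGA #17498, #17636): abstract part

* `two_pow_le` : the permutations preserving all orbits of a fixed-point-free involution;
* `card_le_of_rank` : `|U| ≤ |C|` for `U/B` elementary abelian of `S/B ≤ Sym(Ω)`, `C/B` the group of `two_pow_le`;
* `le_of_normalises` : `X` a 2-group normalised by `C`, `X ∩ C ≤ B` ⇒ `X ≤ B`;
* `fix_of_swaps` : a 2-group of permutations normalised by the transpositions of `≥ 5` points fixes these points.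
-/

set_option autoImplicit false

namespace Cfsg.Agent.Omega.IId.SymWrD.RankAbs

open Subgroup

universe u v

section count

variable {Ω : Type v}

/-- the involution inducing `ν` on the orbits `{x, ν x}` with `φ x = true` -/
def flip (ν : Equiv.Perm Ω) (hν : ∀ x, ν (ν x) = x) (φ : Ω → Bool) (hφ : ∀ x, φ (ν x) = φ x) :
    Equiv.Perm Ω where
  toFun x := if φ x then ν x else x
  invFun x := if φ x then ν x else x
  left_inv x := by
    cases h : φ x <;> simp [h, hφ, hν]
  right_inv x := by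
    cases h : φ x <;> simp [h, hφ, hν]

theorem flip_apply (ν : Equiv.Perm Ω) (hν : ∀ x, ν (ν x) = x) (φ : Ω → Bool) (hφ : ∀ x, φ (ν x) = φ x) (x : Ω) :
    flip ν hν φ hφ x = if φ x then ν x else x := rfl

theorem flip_or (ν : Equiv.Perm Ω) (hν : ∀ x, ν (ν x) = x) (φ : Ω → Bool) (hφ : ∀ x, φ (ν x) = φ x) (x : Ω) :
    flip ν hν φ hφ x = x ∨ flip ν hν φ hφ x = ν x := by
  rw [flip_apply]
  cases φ x <;> simp

theorem flip_inj {ν : Equiv.Perm Ω} {hν : ∀ x, ν (ν x) = x} (hne : ∀ x, ν x ≠ x) {φ ψ : Ω → Bool}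
    {hφ : ∀ x, φ (ν x) = φ x} {hψ : ∀ x, ψ (ν x) = ψ x} (h : flip ν hν φ hφ = flip ν hν ψ hψ) (x : Ω) :
    φ x = ψ x := by
  have h1 := congrArg (fun π : Equiv.Perm Ω => π x) h
  simp only [flip_apply] at h1
  cases hx : φ x <;> cases hy : ψ x <;> rw [hx, hy] at h1
  · simp only [Bool.false_eq_true, if_false, if_true] at h1
    exact absurd h1.symm (hne x)
  · simp only [Bool.false_eq_true, if_false, if_true] at h1
    exact absurd h1 (hne x)

theorem two_pow_le [Finite Ω] (ν : Equiv.Perm Ω) (hν : ∀ x, ν (ν x) = x) (hne : ∀ x, ν x ≠ x)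
    (F : Subgroup (Equiv.Perm Ω)) (hF : ∀ π : Equiv.Perm Ω, (∀ x, π x = x ∨ π x = ν x) → π ∈ F) :
    2 ^ Nat.card Ω ≤ Nat.card F ^ 2 := by
  classical
  obtain ⟨n, ⟨e⟩⟩ := Finite.exists_equiv_fin Ω
  -- the representative of an orbit
  obtain ⟨r, hr⟩ : ∃ r : Ω → Ω, ∀ x, r x = if e x < e (ν x) then x else ν x := ⟨_, fun _ => rfl⟩
  have hr1 : ∀ x, r (ν x) = r x := by
    intro x
    rw [hr, hr, hν]
    have h1 : e x ≠ e (ν x) := fun h => hne x (e.injective h).symm
    rcases lt_or_gt_of_ne h1 with h2 | h2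
    · rw [if_pos h2, if_neg (not_lt.2 h2.le)]
    · rw [if_neg (not_lt.2 h2.le), if_pos h2]
  have hr2 : ∀ x, r x = x ∨ ν (r x) = x := by
    intro x
    rw [hr]
    split_ifs
    · exact Or.inl rfl
    · exact Or.inr (hν x)
  have h1 : ∀ φ : Ω → Bool, ∀ x, φ (r (ν x)) = φ (r x) := fun φ x => by rw [hr1]
  have h2 : ∀ φ : Ω → Bool, ∀ x, φ (ν (r (ν x))) = φ (ν (r x)) := fun φ x => by rw [hr1]
  let f : (Ω → Bool) → F × F := fun φ =>
    (⟨flip ν hν (fun x => φ (r x)) (h1 φ), hF _ (flip_or _ _ _ _)⟩,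
      ⟨flip ν hν (fun x => φ (ν (r x))) (h2 φ), hF _ (flip_or _ _ _ _)⟩)
  have hf : Function.Injective f := by
    intro φ ψ h
    have h3 := congrArg (fun y : F × F => ((y.1 : F) : Equiv.Perm Ω)) h
    have h4 := congrArg (fun y : F × F => ((y.2 : F) : Equiv.Perm Ω)) h
    have h5 := flip_inj (hν := hν) (hφ := h1 φ) (hψ := h1 ψ) hne h3
    have h6 := flip_inj (hν := hν) (hφ := h2 φ) (hψ := h2 ψ) hne h4
    funext x
    rcases hr2 x with h7 | h7
    · have := h5 x
      rwa [h7] at this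
    · have := h6 x
      rwa [h7] at this
  have h3 := Nat.card_le_card_of_injective f hf
  rw [Nat.card_fun, Nat.card_prod, ← pow_two] at h3
  simpa using h3

end count

section bound

variable {G : Type u} [Group G] {Ω : Type v}

theorem card_eq {S B K : Subgroup G} (φ : S →* Equiv.Perm Ω) (hB : ∀ s : S, φ s = 1 ↔ (s : G) ∈ B)
    (hBK : B ≤ K) (hKS : K ≤ S) :
    Nat.card K = Nat.card B * Nat.card (φ.comp (inclusion hKS)).range := by
  have h1 : Nat.card (φ.comp (inclusion hKS)).ker = Nat.card B := by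
    refine Nat.card_congr
      { toFun := fun x => ⟨((x : K) : G), ?_⟩
        invFun := fun b => ⟨⟨b, hBK b.2⟩, ?_⟩
        left_inv := fun _ => rfl
        right_inv := fun _ => rfl }
    · exact (hB _).1 x.2
    · exact (hB _).2 b.2
  rw [← h1, ← Subgroup.index_ker, Subgroup.card_mul_index]

theorem card_le_of_rank [Finite G] [Finite Ω] {S B C U : Subgroup G} (φ : S →* Equiv.Perm Ω) (hB : ∀ s : S, φ s = 1 ↔ (s : G) ∈ B)
    (ν : Equiv.Perm Ω) (hν : ∀ x, ν (ν x) = x) (hne : ∀ x, ν x ≠ x) (hBC : B ≤ C) (hCS : C ≤ S)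
    (hC : ∀ π : Equiv.Perm Ω, (∀ x, π x = x ∨ π x = ν x) → ∃ c : S, (c : G) ∈ C ∧ φ c = π)
    (hBU : B ≤ U) (hUS : U ≤ S) (hU : ∀ u ∈ U, u * u ∈ B) : Nat.card U ≤ Nat.card C := by
  rw [card_eq φ hB hBU hUS, card_eq φ hB hBC hCS]
  apply Nat.mul_le_mul_left
  have h1 : 2 ^ Nat.card Ω ≤ Nat.card (φ.comp (inclusion hCS)).range ^ 2 := by
    apply two_pow_le ν hν hne
    intro π hπ
    obtain ⟨c, hc, h2⟩ := hC π hπ
    exact ⟨⟨c, hc⟩, h2⟩
  have h2 : Nat.card (φ.comp (inclusion hUS)).range ^ 2 ≤ 2 ^ Nat.card Ω := by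
    apply TwoF.PermRank.card_sq_le
    rintro ⟨_, u, rfl⟩
    apply Subtype.ext
    change φ.comp (inclusion hUS) u * φ.comp (inclusion hUS) u = 1
    rw [← map_mul]
    exact (hB _).2 (hU u u.2)
  exact (Nat.pow_le_pow_iff_left (by norm_num)).1 (h2.trans h1)

end bound

section norm

variable {G : Type u} [Group G]

theorem mem_sup_norm {A B : Subgroup G} (h : B ≤ normalizer (A : Set G)) {x : G} (hx : x ∈ A ⊔ B) :
    ∃ a ∈ A, ∃ b ∈ B, x = a * b := by
  have h1 : x ∈ ((A ⊔ B : Subgroup G) : Set G) := hx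
  rw [coe_mul_of_right_le_normalizer_left A B h] at h1
  obtain ⟨a, ha, b, hb, hab⟩ := h1
  exact ⟨a, ha, b, hb, hab.symm⟩

variable [Finite G]

theorem le_of_normalises (S : Sylow 2 G) {B C E X : Subgroup G} (hBC : B ≤ C) (hCS : C ≤ (S : Subgroup G))
    (hSB : (S : Subgroup G) ≤ normalizer (B : Set G))
    (hBE : normalizer (B : Set G) ≤ normalizer (E : Set G))
    (hE : (S : Subgroup G) ⊓ centralizer (E : Set G) = B) (hC2 : ∀ c ∈ C, c * c ∈ B)
    (hbound : ∀ U : Subgroup G, B ≤ U → U ≤ (S : Subgroup G) → (∀ u ∈ U, u * u ∈ B) → Nat.card U ≤ Nat.card C)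
    (hX : IsPGroup 2 X) (hCX : C ≤ normalizer (X : Set G)) (hXC : X ⊓ C ≤ B) : X ≤ B := by
  have : Fact (Nat.Prime 2) := ⟨Nat.prime_two⟩
  have hB2 : IsPGroup 2 B := S.isPGroup'.to_le (hBC.trans hCS)
  have hCp : IsPGroup 2 C := S.isPGroup'.to_le hCS
  have cj : ∀ {A : Subgroup G} {g x : G}, g ∈ normalizer (A : Set G) → x ∈ A → g * x * g⁻¹ ∈ A :=
    fun hg hx => (mem_normalizer_iff.1 hg _).1 hx
  have cj' : ∀ {A : Subgroup G} {g x : G}, g ∈ normalizer (A : Set G) → x ∈ A → g⁻¹ * x * g ∈ A := by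
    intro A g x hg hx
    have := cj (inv_mem hg) hx
    rwa [inv_inv] at this
  -- Step 0: the elements whose square lies in `B`
  have step0 : ∀ n ∈ X, n ∈ normalizer (B : Set G) → n ∈ normalizer (C : Set G) → n * n ∈ B → n ∈ B := by
    intro n hnX hnB hnC hn2
    by_contra hn
    have hnC' : n ∉ C := fun h1 => hn (hXC ⟨hnX, h1⟩)
    let U : Subgroup G :=
      { carrier := {u | u ∈ C ∨ n⁻¹ * u ∈ C}
        one_mem' := Or.inl (one_mem C)
        mul_mem' := by
          rintro a b (ha | ha) (hb | hb)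
          · exact Or.inl (mul_mem ha hb)
          · right
            have e : n⁻¹ * (a * b) = n⁻¹ * a * n * (n⁻¹ * b) := by group
            rw [e]
            exact mul_mem (cj' hnC ha) hb
          · right
            rw [← mul_assoc]
            exact mul_mem ha hb
          · left
            have e : a * b = n * n * (n⁻¹ * (n⁻¹ * a) * n) * (n⁻¹ * b) := by group
            rw [e]
            exact mul_mem (mul_mem (hBC hn2) (cj' hnC ha)) hb
        inv_mem' := by
          rintro a (ha | ha)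
          · exact Or.inl (inv_mem ha)
          · right
            have e : n⁻¹ * a⁻¹ = n⁻¹ * (n⁻¹ * a)⁻¹ * n * (n * n)⁻¹ := by group
            rw [e]
            exact mul_mem (cj' hnC (inv_mem ha)) (inv_mem (hBC hn2)) }
    have hCU : C ≤ U := fun c hc => Or.inl hc
    have hnU : n ∈ U := Or.inr (by rw [inv_mul_cancel]; exact one_mem C)
    have hBU : B ≤ U := hBC.trans hCU
    have hsq : ∀ u ∈ U, u * u ∈ B := by
      rintro u (hu | hu)
      · exact hC2 u hu
      · obtain ⟨c, hc⟩ : ∃ c, c = n⁻¹ * u := ⟨_, rfl⟩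
        rw [← hc] at hu
        have hu' : u = n * c := by rw [hc, mul_inv_cancel_left]
        have e : u * u = n * n * (n⁻¹ * c * n * c⁻¹) * (c * c) := by rw [hu']; group
        rw [e]
        refine mul_mem (mul_mem hn2 (hXC (mem_inf.2 ⟨?_, ?_⟩))) (hC2 c hu)
        · have e1 : n⁻¹ * c * n * c⁻¹ = n⁻¹ * (c * n * c⁻¹) := by group
          rw [e1]
          exact mul_mem (inv_mem hnX) (cj (hCX hu) hnX)
        · exact mul_mem (cj' hnC hu) (inv_mem hu)
    have hUp : IsPGroup 2 U := by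
      intro u
      obtain ⟨j, hj⟩ := hB2 ⟨u * u, hsq u u.2⟩
      refine ⟨j + 1, Subtype.ext ?_⟩
      have h1 : ((u : G) * u) ^ 2 ^ j = 1 := congrArg Subtype.val hj
      change (u : G) ^ 2 ^ (j + 1) = 1
      rw [pow_succ', pow_mul, pow_two]
      exact h1
    have hUN : U ≤ normalizer (B : Set G) := by
      rintro u (hu | hu)
      · exact hSB (hCS hu)
      · have e : u = n * (n⁻¹ * u) := by group
        rw [e]
        exact mul_mem hnB (hSB (hCS hu))
    obtain ⟨g, hg, hgU⟩ := S5.TT.exists_conj_le_sylow S (normalizer (E : Set G)) U (hSB.trans hBE) hUp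
      (hUN.trans hBE)
    have hBg : ∀ b ∈ B, g * b * g⁻¹ ∈ B := by
      intro b hb
      rw [← hE]
      refine ⟨hgU b (hBU hb), mem_centralizer_iff.2 fun x hx => ?_⟩
      have h1 : g⁻¹ * x * g ∈ E := cj' hg hx
      have h2 : b ∈ centralizer (E : Set G) := (hE.ge hb).2
      have h3 := mem_centralizer_iff.1 h2 _ h1
      calc x * (g * b * g⁻¹) = g * ((g⁻¹ * x * g) * b) * g⁻¹ := by group
        _ = g * (b * (g⁻¹ * x * g)) * g⁻¹ := by rw [h3]
        _ = g * b * g⁻¹ * x := by group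
    have hgB : g ∈ normalizer (B : Set G) := by
      refine MinSimple.VModule.mem_normalizer_of_map_le ?_
      rintro _ ⟨b, hb, rfl⟩
      exact hBg b hb
    have h1 := hbound (U.map (MulAut.conj g).toMonoidHom) ?_ ?_ ?_
    · have h2 : Nat.card (U.map (MulAut.conj g).toMonoidHom) = Nat.card U :=
        (Nat.card_congr (U.equivMapOfInjective _ (MulAut.conj g).injective).toEquiv).symm
      rw [h2] at h1
      have h3 := Subgroup.eq_of_le_of_card_ge hCU h1
      rw [← h3] at hnU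
      exact hnC' hnU
    · intro b hb
      exact ⟨g⁻¹ * b * g, hBU (cj' hgB hb), by
        change g * (g⁻¹ * b * g) * g⁻¹ = b
        group⟩
    · rintro _ ⟨u, hu, rfl⟩
      exact hgU u hu
    · rintro _ ⟨u, hu, rfl⟩
      change g * u * g⁻¹ * (g * u * g⁻¹) ∈ B
      have e : g * u * g⁻¹ * (g * u * g⁻¹) = g * (u * u) * g⁻¹ := by group
      rw [e]
      exact hBg _ (hsq u hu)
  -- Step 1
  have step1 : ∀ n ∈ X, n ∈ normalizer (B : Set G) → n ∈ normalizer (C : Set G) → n ∈ B := by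
    intro n hnX hnB hnC
    by_contra hn
    have hex : ∃ j, n ^ 2 ^ j ∈ B := by
      obtain ⟨j, hj⟩ := hX ⟨n, hnX⟩
      refine ⟨j, ?_⟩
      have h1 : n ^ 2 ^ j = 1 := congrArg Subtype.val hj
      rw [h1]
      exact one_mem B
    classical
    have h1 := Nat.find_spec hex
    have h2 : Nat.find hex ≠ 0 := by
      intro h0
      rw [h0, pow_zero, pow_one] at h1
      exact hn h1
    obtain ⟨j, hj⟩ := Nat.exists_eq_succ_of_ne_zero h2
    have h3 : n ^ 2 ^ j ∉ B := Nat.find_min hex (by omega)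
    rw [hj, Nat.succ_eq_add_one, pow_succ, pow_mul, pow_two] at h1
    exact h3 (step0 _ (pow_mem hnX _) (pow_mem hnB _) (pow_mem hnC _) h1)
  -- Step 2
  have hCN : C ≤ normalizer ((X ⊓ normalizer (B : Set G) : Subgroup G) : Set G) := by
    intro c hc
    refine MinSimple.VModule.mem_normalizer_of_map_le ?_
    rintro _ ⟨x, hx, rfl⟩
    have h1 := mem_inf.1 hx
    exact mem_inf.2 ⟨cj (hCX hc) h1.1, mul_mem (mul_mem (hSB (hCS hc)) h1.2) (inv_mem (hSB (hCS hc)))⟩
  have step2 : X ⊓ normalizer (B : Set G) ≤ B := by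
    have h1 : IsPGroup 2 (C ⊔ (X ⊓ normalizer (B : Set G)) : Subgroup G) :=
      hCp.to_sup_of_normal_right' (hX.to_le inf_le_left) hCN
    have h2 : C ⊔ (X ⊓ normalizer (B : Set G)) ≤ C := by
      by_contra h3
      obtain ⟨r, hr, hrC, hrN⟩ := S5.TT.exists_mem_normalizer h1 le_sup_left h3
      rw [sup_comm] at hr
      obtain ⟨y, hy, c, hc, rfl⟩ := mem_sup_norm hCN hr
      have h4 : y ∈ normalizer (C : Set G) := by
        have := mul_mem hrN (inv_mem (le_normalizer hc))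
        rwa [mul_inv_cancel_right] at this
      exact hrC (mul_mem (hBC (step1 y hy.1 hy.2 h4)) hc)
    exact fun x hx => hXC ⟨hx.1, h2 (mem_sup_right hx)⟩
  -- Step 3
  have h1 : IsPGroup 2 (B ⊔ X : Subgroup G) := hB2.to_sup_of_normal_right' hX (hBC.trans hCX)
  have h2 : B ⊔ X ≤ B := by
    by_contra h3
    obtain ⟨r, hr, hrB, hrN⟩ := S5.TT.exists_mem_normalizer h1 le_sup_left h3
    rw [sup_comm] at hr
    obtain ⟨x, hx, b, hb, rfl⟩ := mem_sup_norm (hBC.trans hCX) hr
    have h4 : x ∈ normalizer (B : Set G) := by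
      have := mul_mem hrN (inv_mem (le_normalizer hb))
      rwa [mul_inv_cancel_right] at this
    exact hrB (mul_mem (step2 ⟨hx, h4⟩) hb)
  exact le_sup_right.trans h2

end norm

section swaps

variable {Ω : Type v} [DecidableEq Ω]

theorem not_cycle {N : Subgroup (Equiv.Perm Ω)} (hN : IsPGroup 2 N) {a b c : Ω} (hab : a ≠ b) (hbc : b ≠ c)
    (hac : a ≠ c) : Equiv.swap a b * Equiv.swap b c ∉ N := by
  intro h
  set σ := Equiv.swap a b * Equiv.swap b c with hσ
  have ha : σ a = b := by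
    rw [hσ, Equiv.Perm.mul_apply, Equiv.swap_apply_of_ne_of_ne hab hac, Equiv.swap_apply_left]
  have hb : σ b = c := by
    rw [hσ, Equiv.Perm.mul_apply, Equiv.swap_apply_left, Equiv.swap_apply_of_ne_of_ne hac.symm hbc.symm]
  have hc : σ c = a := by
    rw [hσ, Equiv.Perm.mul_apply, Equiv.swap_apply_right, Equiv.swap_apply_right]
  have hd : ∀ x, x ≠ a → x ≠ b → x ≠ c → σ x = x := by
    intro x h1 h2 h3
    rw [hσ, Equiv.Perm.mul_apply, Equiv.swap_apply_of_ne_of_ne h2 h3, Equiv.swap_apply_of_ne_of_ne h1 h2]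
  have h3 : σ ^ 3 = 1 := by
    ext1 x
    have e : (σ ^ 3) x = σ (σ (σ x)) := rfl
    rw [e]
    change _ = x
    by_cases h1 : x = a
    · rw [h1, ha, hb, hc]
    · by_cases h2 : x = b
      · rw [h2, hb, hc, ha]
      · by_cases h4 : x = c
        · rw [h4, hc, ha, hb]
        · rw [hd x h1 h2 h4, hd x h1 h2 h4, hd x h1 h2 h4]
  obtain ⟨j, hj⟩ := hN ⟨σ, h⟩
  have hj' : σ ^ 2 ^ j = 1 := congrArg Subtype.val hj
  have h4 : orderOf σ ∣ 3 := orderOf_dvd_of_pow_eq_one h3
  have h5 : orderOf σ ∣ 2 ^ j := orderOf_dvd_of_pow_eq_one hj'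
  have h6 : Nat.Coprime 3 (2 ^ j) := Nat.Coprime.pow_right j (by norm_num)
  have h7 : orderOf σ = 1 := Nat.eq_one_of_dvd_coprimes h6 h4 h5
  rw [orderOf_eq_one_iff] at h7
  rw [h7] at ha
  exact hab ha

theorem comm_mem {N : Subgroup (Equiv.Perm Ω)} {p q : Ω}
    (hn : ∀ π ∈ N, Equiv.swap p q * π * Equiv.swap p q ∈ N) {π : Equiv.Perm Ω} (hπ : π ∈ N) :
    Equiv.swap (π p) (π q) * Equiv.swap p q ∈ N := by
  have h1 := mul_mem hπ (hn _ (inv_mem hπ))
  have e : π * (Equiv.swap p q * π⁻¹ * Equiv.swap p q) = Equiv.swap (π p) (π q) * Equiv.swap p q := by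
    have e1 : π * Equiv.swap p q * π⁻¹ = Equiv.swap (π p) (π q) := by
      rw [Equiv.mul_swap_eq_swap_mul, mul_inv_cancel_right]
    rw [← mul_assoc, ← mul_assoc, e1]
  rwa [e] at h1

/-- a 2-group of permutations normalised by the transpositions of `Γ`: an element fixing a point of `Γ` fixes `Γ` -/
theorem fix_of_fix {N : Subgroup (Equiv.Perm Ω)} (hN : IsPGroup 2 N) (Γ : Finset Ω)
    (hn : ∀ p ∈ Γ, ∀ q ∈ Γ, ∀ π ∈ N, Equiv.swap p q * π * Equiv.swap p q ∈ N) :
    ∀ π ∈ N, ∀ p ∈ Γ, ∀ r ∈ Γ, π r = r → π p = p := by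
  intro π hπ p hp r hr h1
  by_contra h2
  have hpr : p ≠ r := by
    rintro rfl
    exact h2 h1
  have h3 := comm_mem (hn p hp r hr) hπ
  rw [h1, Equiv.swap_comm p r] at h3
  refine not_cycle hN ?_ hpr.symm h2 h3
  intro h4
  exact hpr (π.injective (h4.trans h1.symm))

/-- **A 2-group of permutations normalised by the transpositions of at least 5 points fixes these points.** -/
theorem fix_of_swaps {N : Subgroup (Equiv.Perm Ω)} (hN : IsPGroup 2 N) (Γ : Finset Ω) (h5 : 5 ≤ Γ.card)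
    (hn : ∀ p ∈ Γ, ∀ q ∈ Γ, ∀ π ∈ N, Equiv.swap p q * π * Equiv.swap p q ∈ N) {π : Equiv.Perm Ω} (hπ : π ∈ N)
    {p : Ω} (hp : p ∈ Γ) : π p = p := by
  have stepa := fix_of_fix hN Γ hn
  by_contra h1
  have h2 : ∀ r ∈ Γ, π r ≠ r := fun r hr h3 => h1 (stepa π hπ p hp r hr h3)
  obtain ⟨q, hq, hq1⟩ := Finset.exists_mem_notMem_of_card_lt_card (s := {p, π p, π⁻¹ p}) (t := Γ)
    (lt_of_le_of_lt Finset.card_le_three (by omega))
  simp only [Finset.mem_insert, Finset.mem_singleton, not_or] at hq1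
  obtain ⟨q1, q2, q3⟩ := hq1
  obtain ⟨r, hr, hr1⟩ := Finset.exists_mem_notMem_of_card_lt_card (s := {p, q, π p, π q}) (t := Γ)
    (lt_of_le_of_lt Finset.card_le_four (by omega))
  simp only [Finset.mem_insert, Finset.mem_singleton, not_or] at hr1
  obtain ⟨r1, r2, r3, r4⟩ := hr1
  have h3 := comm_mem (hn p hp q hq) hπ
  have h4 := stepa _ h3 p hp r hr (by
    rw [Equiv.Perm.mul_apply, Equiv.swap_apply_of_ne_of_ne r1 r2, Equiv.swap_apply_of_ne_of_ne r3 r4])
  rw [Equiv.Perm.mul_apply, Equiv.swap_apply_left, Equiv.swap_apply_of_ne_of_ne q2 (h2 q hq).symm] at h4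
  exact q1 h4

/-- a 2-group of permutations which preserves a set of 3 points and is normalised by its transpositions fixes these
points -/
theorem fix_of_swaps_three {N : Subgroup (Equiv.Perm Ω)} (hN : IsPGroup 2 N) (Γ : Finset Ω) (h3 : Γ.card = 3)
    (hn : ∀ p ∈ Γ, ∀ q ∈ Γ, ∀ π ∈ N, Equiv.swap p q * π * Equiv.swap p q ∈ N)
    (hpres : ∀ π ∈ N, ∀ p ∈ Γ, π p ∈ Γ) {π : Equiv.Perm Ω} (hπ : π ∈ N) {p : Ω} (hp : p ∈ Γ) : π p = p := by
  have stepa := fix_of_fix hN Γ hn
  by_contra h1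
  have h2 : ∀ r ∈ Γ, π r ≠ r := fun r hr h3 => h1 (stepa π hπ p hp r hr h3)
  have hp1 := hpres π hπ p hp
  have hp2 := hpres π hπ _ hp1
  have hp3 := hpres π hπ _ hp2
  have n1 := h2 p hp
  have n2 := h2 _ hp1
  have n3 := h2 _ hp2
  -- `π (π p) ≠ p`
  have n4 : π (π p) ≠ p := by
    intro h4
    obtain ⟨r, hr, hr1⟩ := Finset.exists_mem_notMem_of_card_lt_card (s := {p, π p}) (t := Γ)
      (lt_of_le_of_lt Finset.card_le_two (by omega))
    simp only [Finset.mem_insert, Finset.mem_singleton, not_or] at hr1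
    obtain ⟨r1, r2⟩ := hr1
    have hr2 := hpres π hπ r hr
    have hsub : ({p, π p, r} : Finset Ω) ⊆ Γ := by
      intro y hy
      simp only [Finset.mem_insert, Finset.mem_singleton] at hy
      rcases hy with rfl | rfl | rfl
      · exact hp
      · exact hp1
      · exact hr
    have hc : ({p, π p, r} : Finset Ω).card = 3 := Finset.card_eq_three.2 ⟨p, π p, r, n1.symm, Ne.symm r1, Ne.symm r2, rfl⟩
    have heq := Finset.eq_of_subset_of_card_le hsub (by omega)
    rw [← heq] at hr2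
    simp only [Finset.mem_insert, Finset.mem_singleton] at hr2
    rcases hr2 with h5 | h5 | h5
    · exact r2 (π.injective (h5.trans h4.symm))
    · exact r1 (π.injective h5)
    · exact h2 r hr h5
  have h5 : π (π (π p)) = p := by
    have hsub : ({p, π p, π (π p)} : Finset Ω) ⊆ Γ := by
      intro y hy
      simp only [Finset.mem_insert, Finset.mem_singleton] at hy
      rcases hy with rfl | rfl | rfl
      · exact hp
      · exact hp1
      · exact hp2
    have hc : ({p, π p, π (π p)} : Finset Ω).card = 3 :=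
      Finset.card_eq_three.2 ⟨p, π p, π (π p), n1.symm, n4.symm, n2.symm, rfl⟩
    have heq := Finset.eq_of_subset_of_card_le hsub (by omega)
    rw [← heq] at hp3
    simp only [Finset.mem_insert, Finset.mem_singleton] at hp3
    rcases hp3 with h5 | h5 | h5
    · exact h5
    · exact absurd (π.injective h5) n4
    · exact absurd h5 n3
  obtain ⟨j, hj⟩ := hN ⟨π, hπ⟩
  have hj' : π ^ 2 ^ j = 1 := congrArg Subtype.val hj
  have h6 : Function.IsPeriodicPt π 3 p := h5
  have h7 : Function.IsPeriodicPt π (2 ^ j) p := by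
    change (π^[2 ^ j]) p = p
    rw [Equiv.Perm.iterate_eq_pow, hj']
    rfl
  have h8 := h6.gcd h7
  rw [show Nat.gcd 3 (2 ^ j) = 1 from Nat.Coprime.pow_right j (by norm_num)] at h8
  exact n1 h8

end swaps

end Cfsg.Agent.Omega.IId.SymWrD.RankAbs
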