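import Cfsg.Agent.Omega.IId.SymWrD.Fours
import Cfsg.Agent.Omega.IId.SymWrD.RankAbs

/-!
# II.d, `SwBig`, `SwCv`: the rank arguments (R0), (R1) of THEOREM L (bb OMEGA #17498, #17636)

* `R0` : `X` a 2-group normalised by `A` with `X ∩ A ≤ O₂(P)` lies in `O₂(P)`;
* `R1` : `X` a 2-group normalised by `D` with `X ∩ D ≤ A` lies in `A`.
-/

set_option autoImplicit false

namespace Cfsg.Agent.Omega.IId.SymWrD

open Subgroup Pointwise Cfsg Cfsg.Agent.ZN Cfsg.Agent.Omega.MinPar Cfsg.Agent.Omega.FFThm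
open Cfsg.Agent.Omega.Half.SymA (Pt E Mv pm Amb0)
open Cfsg.Agent.MinSimple.VModule (mem_zc zc_le zc_comm zc_sq zc_le_zl le_normalizer_o2 o2_isPGroup o2_le
  normalizer_le_normalizer_zc le_normalizer_zl le_centralizer_zc)

universe u

variable {G : Type u} [Group G] {P V : Subgroup G} {k m : ℕ}

section basic

variable {S : Sylow 2 G} {M : SymK (S : Subgroup G) P V ⊥ k m} (h : Sit S P V M)

include h

theorem Sit.exists_nz (i : Fin k) : ∃ p : Pt k m, p.1 = i ∧ p.2 ≠ 0 := by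
  obtain ⟨c, hc, -⟩ := Half.SymA.exists_third h.hm1 0 0
  exact ⟨(i, c), rfl, hc⟩

/-- an element of `S` which fixes the summands fixes the zero points -/
theorem Sit.fix_zero {s : G} (hs : s ∈ (S : Subgroup G)) (h1 : ∀ p : Pt k m, p.2 ≠ 0 → (pp M s p).1 = p.1)
    {p : Pt k m} (hp : p.2 = 0) : pp M s p = p := by
  obtain ⟨q, hq, hq0⟩ := h.exists_nz p.1
  have h2 : (pp M s p).1 = (pp M s q).1 := h.fst (h.SP hs) hq.symm
  rw [h1 q hq0, hq] at h2
  exact Prod.ext h2 (((h.snd hs).2 hp).trans hp.symm)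

theorem Sit.mul_apply {g g' : G} (hg : g ∈ P) (hg' : g' ∈ P) (p : Pt k m) :
    pp M (g * g') p = pp M g (pp M g' p) := by
  rw [h.mul hg hg', Equiv.Perm.mul_apply]

end basic

section R0

variable {S : Sylow 2 G} {M : SymK (S : Subgroup G) P V ⊥ k m}

/-- the action of `S` on the points `≠ 0` -/
noncomputable def actNz (h : Sit S P V M) : (S : Subgroup G) →* Equiv.Perm {p : Pt k m // p.2 ≠ 0} where
  toFun s := (pp M (s : G)).subtypePerm fun _ => not_congr (h.snd s.2)
  map_one' := by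
    ext1 p
    apply Subtype.ext
    change pp M ((1 : (S : Subgroup G)) : G) p = p
    rw [OneMemClass.coe_one, h.one]
    rfl
  map_mul' s t := by
    ext1 p
    apply Subtype.ext
    change pp M ((s * t : (S : Subgroup G)) : G) p = pp M s (pp M t p)
    rw [MulMemClass.coe_mul, h.mul_apply (h.SP s.2) (h.SP t.2)]

theorem actNz_apply (h : Sit S P V M) (s : (S : Subgroup G)) (p : {p : Pt k m // p.2 ≠ 0}) :
    ((actNz h s p : {p : Pt k m // p.2 ≠ 0}) : Pt k m) = pp M (s : G) p := rfl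

theorem actNz_eq_one (h : Sit S P V M) (s : (S : Subgroup G)) : actNz h s = 1 ↔ (s : G) ∈ o2 P := by
  rw [h.mem_Q_iff s.2]
  constructor
  · intro h1
    have h2 : ∀ p : Pt k m, p.2 ≠ 0 → pp M (s : G) p = p := by
      intro p hp
      have h3 := actNz_apply h s ⟨p, hp⟩
      rw [h1] at h3
      exact h3.symm
    ext1 p
    by_cases hp : p.2 = 0
    · exact h.fix_zero s.2 (fun q hq => by rw [h2 q hq]) hp
    · exact h2 p hp
  · intro h1
    ext1 p
    apply Subtype.ext
    rw [actNz_apply, h1]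
    rfl

variable [Finite G]

open scoped Classical in
/-- **(R0)** -/
theorem R0 {μ ν : Equiv.Perm (Pt k m)} (h : Sit S P V M) (F : Fours M μ ν) {X : Subgroup G} (hX : IsPGroup 2 X)
    (hAX : Fours.A h F ≤ normalizer (X : Set G)) (hXA : X ⊓ Fours.A h F ≤ o2 P) : X ≤ o2 P := by
  refine RankAbs.le_of_normalises S (B := o2 P) (C := Fours.A h F) (E := zc (o2 P)) (Fours.Q_le_A h F)
    (Fours.A_le h F) (h.SP.trans (le_normalizer_o2 P)) (normalizer_le_normalizer_zc _) ?_ ?_ ?_ hX hAX hXA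
  · refine le_antisymm ?_ (le_inf h.QS (le_centralizer_zc _))
    conv_rhs => rw [h.Q_eq]
    exact inf_le_inf_left _ (centralizer_le h.VZ)
  · intro c hc
    rw [h.mem_Q_iff (mul_mem hc.1 hc.1), h.mul (h.SP hc.1) (h.SP hc.1)]
    exact F.FA_sq hc.2
  · intro U hU1 hU2 hU3
    refine RankAbs.card_le_of_rank (actNz h) (actNz_eq_one h)
      (μ.subtypePerm fun _ => not_congr F.mnz) (fun x => Subtype.ext (F.msq x))
      (fun x hx => F.mne x x.2 (congrArg Subtype.val hx)) (Fours.Q_le_A h F) (Fours.A_le h F) ?_ hU1 hU2 hU3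
    intro π hπ
    have h1 : ∀ p : Pt k m, ∀ hp : p.2 ≠ 0, Equiv.Perm.ofSubtype π p = π ⟨p, hp⟩ := fun p hp =>
      Equiv.Perm.ofSubtype_apply_of_mem π hp
    obtain ⟨s, hs, h2⟩ := Fours.exists_A h F (π := Equiv.Perm.ofSubtype π) (by
      intro p
      by_cases hp : p.2 = 0
      · left
        exact Equiv.Perm.ofSubtype_apply_of_not_mem π (not_not.2 hp)
      · rcases hπ ⟨p, hp⟩ with h3 | h3
        · left
          rw [h1 p hp, h3]
        · right
          rw [h1 p hp, h3]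
          rfl)
    refine ⟨⟨s, hs.1⟩, hs, ?_⟩
    ext1 p
    apply Subtype.ext
    rw [actNz_apply]
    change pp M s p = _
    rw [h2, h1 p p.2]

end R0

/-! ### The action on the pairs -/

section R1

variable {S : Sylow 2 G} {M : SymK (S : Subgroup G) P V ⊥ k m} {μ ν : Equiv.Perm (Pt k m)}

/-- `p` and `q` belong to the same pair -/
def pst (F : Fours M μ ν) : Setoid {p : Pt k m // p.2 ≠ 0} where
  r p q := (q : Pt k m) = p ∨ (q : Pt k m) = μ p
  iseqv :=
    { refl := fun _ => Or.inl rfl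
      symm := by
        rintro p q (h | h)
        · exact Or.inl h.symm
        · right
          rw [h, F.msq]
      trans := by
        rintro p q r (h | h) (h' | h')
        · left; rw [h', h]
        · right; rw [h', h]
        · right; rw [h', h]
        · left; rw [h', h, F.msq] }

/-- the pairs -/
abbrev Prs (F : Fours M μ ν) := Quotient (pst F)

/-- the pair of `p` -/
def mkp (F : Fours M μ ν) (p : Pt k m) (hp : p.2 ≠ 0) : Prs F := Quotient.mk (pst F) ⟨p, hp⟩

theorem mkp_eq {F : Fours M μ ν} {p q : Pt k m} {hp : p.2 ≠ 0} {hq : q.2 ≠ 0} :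
    mkp F p hp = mkp F q hq ↔ q = p ∨ q = μ p := by
  rw [mkp, mkp, Quotient.eq]
  rfl

theorem exists_mkp {F : Fours M μ ν} (x : Prs F) : ∃ p hp, x = mkp F p hp := by
  obtain ⟨⟨p, hp⟩, rfl⟩ := Quotient.exists_rep x
  exact ⟨p, hp, rfl⟩

/-- the action of a permutation on the pairs -/
def onPrs (F : Fours M μ ν) (π : Equiv.Perm (Pt k m)) (h0 : ∀ p, (π p).2 = 0 ↔ p.2 = 0)
    (h1 : ∀ p, π (μ p) = μ (π p)) : Prs F → Prs F :=
  Quotient.map' (fun p => ⟨π p, fun h => p.2 ((h0 _).1 h)⟩) (by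
    rintro p q (h | h)
    · left
      change π q = π p
      rw [h]
    · right
      change π q = μ (π p)
      rw [h, h1])

theorem onPrs_mkp {F : Fours M μ ν} {π : Equiv.Perm (Pt k m)} {h0 : ∀ p, (π p).2 = 0 ↔ p.2 = 0}
    {h1 : ∀ p, π (μ p) = μ (π p)} {p : Pt k m} {hp : p.2 ≠ 0} :
    onPrs F π h0 h1 (mkp F p hp) = mkp F (π p) (fun h => hp ((h0 _).1 h)) := rfl

/-- the action of `S` on the pairs -/
@[implicit_reducible] noncomputable def actPr (h : Sit S P V M) (F : Fours M μ ν) : MulAction (S : Subgroup G) (Prs F) where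
  smul s := onPrs F (pp M (s : G)) (fun _ => h.snd s.2) (F.meqv s s.2)
  one_smul x := by
    obtain ⟨p, hp, rfl⟩ := exists_mkp x
    change mkp F (pp M ((1 : (S : Subgroup G)) : G) p) _ = _
    rw [mkp_eq]
    left
    rw [OneMemClass.coe_one, h.one]
    rfl
  mul_smul s t x := by
    obtain ⟨p, hp, rfl⟩ := exists_mkp x
    change mkp F (pp M ((s * t : (S : Subgroup G)) : G) p) _ = mkp F (pp M (s : G) (pp M (t : G) p)) _
    rw [mkp_eq]
    left
    rw [MulMemClass.coe_mul, h.mul_apply (h.SP s.2) (h.SP t.2)]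

/-- the homomorphism -/
noncomputable def homPr (h : Sit S P V M) (F : Fours M μ ν) : (S : Subgroup G) →* Equiv.Perm (Prs F) :=
  @MulAction.toPermHom (S : Subgroup G) (Prs F) _ (actPr h F)

theorem homPr_mkp (h : Sit S P V M) (F : Fours M μ ν) (s : (S : Subgroup G)) {p : Pt k m} {hp : p.2 ≠ 0} :
    homPr h F s (mkp F p hp) = mkp F (pp M (s : G) p) (fun h0 => hp ((h.snd s.2).1 h0)) := rfl

theorem homPr_eq_one (h : Sit S P V M) (F : Fours M μ ν) (s : (S : Subgroup G)) :
    homPr h F s = 1 ↔ (s : G) ∈ Fours.A h F := by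
  constructor
  · intro h1
    have h2 : ∀ p : Pt k m, p.2 ≠ 0 → pp M (s : G) p = p ∨ pp M (s : G) p = μ p := by
      intro p hp
      have h3 := homPr_mkp h F s (hp := hp)
      rw [h1] at h3
      exact mkp_eq.1 h3
    refine ⟨s.2, fun p => ?_⟩
    by_cases hp : p.2 = 0
    · left
      refine h.fix_zero s.2 (fun q hq => ?_) hp
      rcases h2 q hq with h3 | h3
      · rw [h3]
      · rw [h3, F.mfst]
    · exact h2 p hp
  · rintro ⟨-, h1⟩
    ext1 x
    obtain ⟨p, hp, rfl⟩ := exists_mkp x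
    rw [homPr_mkp, Equiv.Perm.one_apply, mkp_eq]
    rcases h1 p with h2 | h2
    · left; rw [h2]
    · right; rw [h2, F.msq]

/-- the involution of the pairs -/
def nuPr (F : Fours M μ ν) : Equiv.Perm (Prs F) where
  toFun := onPrs F ν (fun _ => F.nnz) (fun p => (F.comm p).symm)
  invFun := onPrs F ν (fun _ => F.nnz) (fun p => (F.comm p).symm)
  left_inv x := by
    obtain ⟨p, hp, rfl⟩ := exists_mkp x
    rw [onPrs_mkp, onPrs_mkp, mkp_eq]
    left; rw [F.nsq]
  right_inv x := by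
    obtain ⟨p, hp, rfl⟩ := exists_mkp x
    rw [onPrs_mkp, onPrs_mkp, mkp_eq]
    left; rw [F.nsq]

theorem nuPr_mkp {F : Fours M μ ν} {p : Pt k m} {hp : p.2 ≠ 0} :
    nuPr F (mkp F p hp) = mkp F (ν p) (fun h => hp (F.nnz.1 h)) := rfl

theorem nuPr_ne {F : Fours M μ ν} (x : Prs F) : nuPr F x ≠ x := by
  obtain ⟨p, hp, rfl⟩ := exists_mkp x
  rw [nuPr_mkp, Ne, mkp_eq]
  rintro (h1 | h1)
  · exact F.nne p hp h1.symm
  · have h2 : μ p = ν p := by
      conv_lhs => rw [h1]
      exact F.msq _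
    exact F.nmu p hp h2.symm

theorem nuPr_sq {F : Fours M μ ν} (x : Prs F) : nuPr F (nuPr F x) = x := (nuPr F).left_inv x

open scoped Classical in
/-- an element of `FD` inducing a permutation of the pairs which preserves all 4-blocks -/
theorem exists_FD (F : Fours M μ ν) (π : Equiv.Perm (Prs F)) (hπ : ∀ x, π x = x ∨ π x = nuPr F x) :
    ∃ δ ∈ F.FD, ∀ p, ∀ hp : p.2 ≠ 0, ∀ hp' : (δ p).2 ≠ 0, mkp F (δ p) hp' = π (mkp F p hp) := by
  obtain ⟨f, hf⟩ : ∃ f : Pt k m → Pt k m, ∀ p, f p =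
      if hp : p.2 = 0 then p else if π (mkp F p hp) = mkp F p hp then p else ν p := ⟨_, fun _ => rfl⟩
  have f0 : ∀ p, p.2 = 0 → f p = p := fun p hp => by rw [hf, dif_pos hp]
  have f1 : ∀ p, ∀ hp : p.2 ≠ 0, π (mkp F p hp) = mkp F p hp → f p = p := fun p hp h1 => by
    rw [hf, dif_neg hp, if_pos h1]
  have f2 : ∀ p, ∀ hp : p.2 ≠ 0, π (mkp F p hp) ≠ mkp F p hp → f p = ν p := fun p hp h1 => by
    rw [hf, dif_neg hp, if_neg h1]
  have hff : ∀ p, f (f p) = p := by
    intro p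
    by_cases hp : p.2 = 0
    · rw [f0 p hp, f0 p hp]
    · by_cases h1 : π (mkp F p hp) = mkp F p hp
      · rw [f1 p hp h1, f1 p hp h1]
      · have h2 : (ν p).2 ≠ 0 := fun h0 => hp (F.nnz.1 h0)
        rw [f2 p hp h1, f2 (ν p) h2, F.nsq]
        intro h3
        have h4 : π (mkp F p hp) = mkp F (ν p) h2 := by
          rcases hπ (mkp F p hp) with h5 | h5
          · exact absurd h5 h1
          · rw [h5, nuPr_mkp]
        have h5 := π.injective (h3.trans h4.symm)
        rw [← nuPr_mkp (hp := hp)] at h5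
        exact nuPr_ne _ h5
  refine ⟨⟨f, f, hff, hff⟩, ⟨fun p => ?_, fun p => ?_⟩, ?_⟩
  · change Fours.Cl μ ν p (f p)
    by_cases hp : p.2 = 0
    · left; exact f0 p hp
    · by_cases h1 : π (mkp F p hp) = mkp F p hp
      · left; exact f1 p hp h1
      · right; right; left; exact f2 p hp h1
  · change f (μ p) = μ (f p)
    by_cases hp : p.2 = 0
    · rw [F.mzero p hp, f0 p hp, F.mzero p hp]
    · have hp' : (μ p).2 ≠ 0 := fun h0 => hp (F.mnz.1 h0)
      have e : mkp F (μ p) hp' = mkp F p hp := mkp_eq.2 (Or.inr (F.msq p).symm)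
      by_cases h1 : π (mkp F p hp) = mkp F p hp
      · rw [f1 p hp h1, f1 (μ p) hp' (by rw [e, h1])]
      · rw [f2 p hp h1, f2 (μ p) hp' (by rw [e]; exact h1), F.comm]
  · intro p hp hp'
    change (f p).2 ≠ 0 at hp'
    change mkp F (f p) hp' = _
    by_cases h1 : π (mkp F p hp) = mkp F p hp
    · rw [h1, mkp_eq, f1 p hp h1]
      exact Or.inl rfl
    · have h4 : π (mkp F p hp) = nuPr F (mkp F p hp) := by
        rcases hπ (mkp F p hp) with h5 | h5
        · exact absurd h5 h1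
        · exact h5
      rw [h4, nuPr_mkp, mkp_eq, f2 p hp h1]
      exact Or.inl rfl

/-- `p.1 = (μ p).1`, so there is an element of `V` with support `{p, μ p}` -/
theorem exists_e (F : Fours M μ ν) (p : Pt k m) (hp : p.2 ≠ 0) :
    ∃ v ∈ V, ∀ r, E M v r = 1 ↔ r = p ∨ r = μ p := by
  classical
  obtain ⟨v, hv, h1⟩ := Half.SymA.exists_pair M (F.mfst p).symm
  refine ⟨v, hv, fun r => ?_⟩
  rw [h1]
  by_cases h2 : r = p
  · subst h2
    rw [if_pos rfl, if_neg (F.mne r hp).symm, add_zero]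
    exact ⟨fun _ => Or.inl rfl, fun _ => rfl⟩
  · by_cases h3 : r = μ p
    · rw [if_neg h2, if_pos h3, zero_add]
      exact ⟨fun _ => Or.inr h3, fun _ => rfl⟩
    · rw [if_neg h2, if_neg h3, add_zero]
      exact ⟨fun h4 => absurd h4.symm one_ne_zero, fun h4 => (h4.elim h2 h3).elim⟩

/-- `g ∈ P` commutes with `v ∈ V` iff it preserves the support of `v` -/
theorem Sit.comm_iff' (h : Sit S P V M) {g : G} (hg : g ∈ P) {v : G} (hv : v ∈ V) :
    g * v = v * g ↔ ∀ p, E M v (pp M g p) = E M v p := by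
  constructor
  · intro h1 p
    have h2 := E_conj (M := M) hg hv p
    rwa [h1, mul_inv_cancel_right] at h2
  · intro h1
    have h2 : g * v * g⁻¹ = v := by
      refine Half.SymA.inj M (h.amb.conj_mem hg hv) hv fun r => ?_
      have h3 := h1 ((pp M g)⁻¹ r)
      rw [E_conj' hg hv, ← h3]
      congr 1
      exact (pp M g).apply_symm_apply r
    rwa [mul_inv_eq_iff_eq_mul] at h2

theorem Sit.comm_iff_mem (h : Sit S P V M) {g : G} (hg : g ∈ P) {v : G} (hv : v ∈ V) :
    g * v = v * g ↔ ∀ p, E M v (pp M g p) = 1 ↔ E M v p = 1 := by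
  rw [h.comm_iff' hg hv]
  refine forall_congr' fun p => ?_
  have : ∀ a b : ZMod 2, a = b ↔ (a = 1 ↔ b = 1) := by decide
  exact this _ _

variable [Finite G]

omit [Finite G] in
theorem inf_centralizer_zc_A (h : Sit S P V M) (F : Fours M μ ν) :
    (S : Subgroup G) ⊓ centralizer (zc (Fours.A h F) : Set G) = Fours.A h F := by
  refine le_antisymm ?_ (le_inf (Fours.A_le h F) (le_centralizer_zc _))
  rintro s ⟨hs, hsC⟩
  have h2 : ∀ p : Pt k m, p.2 ≠ 0 → pp M s p = p ∨ pp M s p = μ p := by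
    intro p hp
    obtain ⟨v, hv, h1⟩ := exists_e F p hp
    have hvA : v ∈ zc (Fours.A h F) := by
      refine mem_zc.2 ⟨Fours.Q_le_A h F (zc_le _ (h.VZ hv)), fun a ha => ?_, h.amb.sq v hv⟩
      rw [h.comm_iff_mem (h.SP ha.1) hv]
      intro r
      have e1 : E M v (μ r) = 1 ↔ E M v r = 1 := by
        rw [h1, h1]
        constructor
        · rintro (h3 | h3)
          · right; rw [← h3, F.msq]
          · left; exact μ.injective h3
        · rintro (h3 | h3)
          · right; rw [h3]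
          · left; rw [h3, F.msq]
      rcases ha.2 r with h3 | h3
      · rw [h3]
      · rw [h3, e1]
    have h3 : s * v = v * s := (mem_centralizer_iff.1 hsC v hvA).symm
    rw [h.comm_iff_mem (h.SP hs) hv] at h3
    have h4 := (h3 p).2 ((h1 p).2 (Or.inl rfl))
    exact (h1 _).1 h4
  refine ⟨hs, fun p => ?_⟩
  by_cases hp : p.2 = 0
  · left
    refine h.fix_zero hs (fun q hq => ?_) hp
    rcases h2 q hq with h3 | h3
    · rw [h3]
    · rw [h3, F.mfst]
  · exact h2 p hp

/-- **(R1)** -/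
theorem R1 (h : Sit S P V M) (F : Fours M μ ν) {X : Subgroup G} (hX : IsPGroup 2 X)
    (hDX : Fours.D h F ≤ normalizer (X : Set G)) (hXD : X ⊓ Fours.D h F ≤ Fours.A h F) : X ≤ Fours.A h F := by
  refine RankAbs.le_of_normalises S (B := Fours.A h F) (C := Fours.D h F) (E := zc (Fours.A h F)) (Fours.A_le_D h F)
    (Fours.D_le h F) (Fours.S_le_normalizer_A h F) (normalizer_le_normalizer_zc _) (inf_centralizer_zc_A h F) ?_ ?_
    hX hDX hXD
  · intro c hc
    refine ⟨mul_mem hc.1 hc.1, ?_⟩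
    rw [h.mul (h.SP hc.1) (h.SP hc.1)]
    exact F.FD_sq hc.2
  · intro U hU1 hU2 hU3
    refine RankAbs.card_le_of_rank (homPr h F) (homPr_eq_one h F) (nuPr F) nuPr_sq nuPr_ne (Fours.A_le_D h F)
      (Fours.D_le h F) ?_ hU1 hU2 hU3
    intro π hπ
    obtain ⟨δ, hδ, h1⟩ := exists_FD F π hπ
    obtain ⟨s, hs, h2⟩ := Fours.exists_D h F hδ
    refine ⟨⟨s, hs.1⟩, hs, ?_⟩
    ext1 x
    obtain ⟨p, hp, rfl⟩ := exists_mkp x
    rw [homPr_mkp]
    have h3 : (δ p).2 ≠ 0 := by
      rw [← h2]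
      exact fun h0 => hp ((h.snd hs.1).1 h0)
    rw [← h1 p hp h3, mkp_eq]
    left
    change δ p = pp M s p
    rw [h2]

end R1

end Cfsg.Agent.Omega.IId.SymWrD
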