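import Cfsg.Agent.Omega.IId.SymWrD.Fours
import Cfsg.Agent.Involutions.BaerSuzuki

/-!
# LEMMA SYL of #18440 (helper506)

* `SylAbs.card_le` : `S` Sylow, `C_G(Q) ≤ Q ≤ R ≤ S`, `C_S(Ω₁Z(K)) ≤ K` for all `R ≤ K ≤ S` ⟹ `R` is a 2-subgroup of
  maximal order of `C_G(Ω₁Z(R))`;
* `Sit.stabB_syl` : so `stabB` (the stabiliser of a summand in `S`) is Sylow in `C_G(Ω₁Z(stabB))`.
-/

set_option autoImplicit false

namespace Cfsg.Agent.Omega.IId.SymWrD

open Subgroup Pointwise Cfsg Cfsg.Agent.ZN Cfsg.Agent.Omega.MinPar Cfsg.Agent.Omega.FFThm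
open Cfsg.Agent.Omega.Half.SymA (Pt E Mv pm Amb0)
open Cfsg.Agent.MinSimple.VModule (mem_zc zc_le zc_comm zc_sq le_normalizer_o2 o2_isPGroup o2_le
  normalizer_le_normalizer_zc mem_normalizer_of_map_le)

universe u

variable {G : Type u} [Group G]

namespace SylAbs

theorem zc_anti {Q R L : Subgroup G} (hQ : centralizer (Q : Set G) ≤ Q) (hQR : Q ≤ R) (hRL : R ≤ L) :
    zc L ≤ zc R := by
  intro x hx
  obtain ⟨h1, h2, h3⟩ := mem_zc.1 hx
  refine mem_zc.2 ⟨hQR (hQ ?_), fun g hg => h2 g (hRL hg), h3⟩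
  exact mem_centralizer_iff.2 fun g hg => h2 g (hRL (hQR hg))

variable [Finite G] (S : Sylow 2 G) {Q : Subgroup G}

theorem card_le_S {X : Subgroup G} (hX : IsPGroup 2 X) : Nat.card X ≤ Nat.card (S : Subgroup G) := by
  have : Fact (Nat.Prime 2) := ⟨Nat.prime_two⟩
  obtain ⟨T, hT⟩ := hX.exists_le_sylow
  exact (Subgroup.card_le_of_le hT).trans (Nat.card_congr (T.equiv S).toEquiv).le

/-- one step -/
theorem step (hQ : centralizer (Q : Set G) ≤ Q) {K : Subgroup G} (hQK : Q ≤ K) (hKS : K ≤ (S : Subgroup G))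
    (hC : (S : Subgroup G) ⊓ centralizer (zc K : Set G) ≤ K) {L : Subgroup G} (hLd : L = (S : Subgroup G) ⊓ normalizer (K : Set G))
    (ih : ∀ X : Subgroup G, IsPGroup 2 X → X ≤ centralizer (zc L : Set G) → Nat.card X ≤ Nat.card L)
    {X : Subgroup G} (hX : IsPGroup 2 X) (hXc : X ≤ centralizer (zc K : Set G)) (hXn : X ≤ normalizer (K : Set G)) :
    Nat.card X ≤ Nat.card K := by
  have : Fact (Nat.Prime 2) := ⟨Nat.prime_two⟩
  have hKL : K ≤ L := by rw [hLd]; exact le_inf hKS le_normalizer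
  have hL2 : IsPGroup 2 L := S.isPGroup'.to_le (by rw [hLd]; exact inf_le_left)
  have hLN : L ≤ normalizer (K : Set G) := by rw [hLd]; exact inf_le_right
  have hzc : zc L ≤ zc K := zc_anti hQ hQK hKL
  -- Sylow subgroups of `N = N_G(K)`
  set N : Subgroup G := normalizer (K : Set G) with hN
  obtain ⟨T₁, hT₁⟩ := (hL2.comap_of_injective N.subtype N.subtype_injective).exists_le_sylow
  obtain ⟨T₂, hT₂⟩ := (hX.comap_of_injective N.subtype N.subtype_injective).exists_le_sylow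
  obtain ⟨n, hn⟩ := MulAction.exists_smul_eq N T₂ T₁
  set A : Subgroup G := (T₁ : Subgroup N).map N.subtype ⊓ centralizer (zc K : Set G) with hA
  have hA2 : IsPGroup 2 ((T₁ : Subgroup N).map N.subtype : Subgroup G) := T₁.isPGroup'.map _
  have hLT : L ≤ (T₁ : Subgroup N).map N.subtype := by
    intro x hx
    exact ⟨⟨x, hLN hx⟩, hT₁ hx, rfl⟩
  -- `L A` is a 2-group centralising `Z_L`
  have hnormA : (T₁ : Subgroup N).map N.subtype ≤ normalizer (A : Set G) := by
    intro x hx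
    refine mem_normalizer_of_map_le ?_
    rintro _ ⟨a, ha, rfl⟩
    change x * a * x⁻¹ ∈ A
    have ha1 : a ∈ (T₁ : Subgroup N).map N.subtype := (mem_inf.1 ha).1
    have ha2 : a ∈ centralizer (zc K : Set G) := (mem_inf.1 ha).2
    have hxi : x⁻¹ ∈ (T₁ : Subgroup N).map N.subtype := Subgroup.inv_mem _ hx
    have hxN : x ∈ N := by
      obtain ⟨y, -, rfl⟩ := hx
      exact y.2
    have h1 := normalizer_le_normalizer_zc K hxN
    refine mem_inf.2 ⟨Subgroup.mul_mem _ (Subgroup.mul_mem _ hx ha1) hxi, mem_centralizer_iff.2 fun z hz => ?_⟩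
    have h2 : x⁻¹ * z * x ∈ zc K := (mem_normalizer_iff''.1 h1 z).1 hz
    have h3 := mem_centralizer_iff.1 ha2 _ h2
    calc z * (x * a * x⁻¹) = x * (x⁻¹ * z * x * a) * x⁻¹ := by group
      _ = x * (a * (x⁻¹ * z * x)) * x⁻¹ := by rw [h3]
      _ = x * a * x⁻¹ * z := by group
  have hLA2 : IsPGroup 2 (L ⊔ A : Subgroup G) := hA2.to_le (sup_le hLT inf_le_left)
  have hLAc : L ⊔ A ≤ centralizer (zc L : Set G) := by
    refine sup_le (fun x hx => mem_centralizer_iff.2 fun z hz => ?_) (inf_le_right.trans (centralizer_le hzc))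
    exact ((mem_zc.1 hz).2.1 x hx).symm
  have hAL : A ≤ L := by
    have h1 := ih _ hLA2 hLAc
    have h2 : L = L ⊔ A := Subgroup.eq_of_le_of_card_ge le_sup_left h1
    rw [h2]
    exact le_sup_right
  have hAK : A ≤ K := fun x hx => hC ⟨by have := hAL hx; rw [hLd] at this; exact this.1, hx.2⟩
  -- `X ^ n ≤ A`
  have hXA : X.map (MulAut.conj (n : G)).toMonoidHom ≤ A := by
    rintro _ ⟨x, hx, rfl⟩
    change (n : G) * x * (n : G)⁻¹ ∈ A
    refine mem_inf.2 ⟨?_, ?_⟩
    · have h1 : (⟨x, hXn hx⟩ : N) ∈ (T₂ : Subgroup N) := hT₂ hx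
      have h2 : n * ⟨x, hXn hx⟩ * n⁻¹ ∈ (T₁ : Subgroup N) := by
        rw [← hn]
        exact (Subgroup.mem_pointwise_smul_iff_inv_smul_mem (a := MulAut.conj n)).2 (by
          rw [← map_inv]
          change n⁻¹ * (n * ⟨x, hXn hx⟩ * n⁻¹) * n⁻¹⁻¹ ∈ (T₂ : Subgroup N)
          have e : n⁻¹ * (n * ⟨x, hXn hx⟩ * n⁻¹) * n⁻¹⁻¹ = ⟨x, hXn hx⟩ := by group
          rw [e]
          exact h1)
      exact ⟨_, h2, rfl⟩
    · have h1 := normalizer_le_normalizer_zc K n.2
      refine mem_centralizer_iff.2 fun z hz => ?_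
      have h2 : (n : G)⁻¹ * z * n ∈ zc K := (mem_normalizer_iff''.1 h1 z).1 hz
      have h3 := mem_centralizer_iff.1 (hXc hx) _ h2
      calc z * ((n : G) * x * (n : G)⁻¹) = n * ((n : G)⁻¹ * z * n * x) * (n : G)⁻¹ := by group
        _ = n * (x * ((n : G)⁻¹ * z * n)) * (n : G)⁻¹ := by rw [h3]
        _ = n * x * (n : G)⁻¹ * z := by group
  calc Nat.card X = Nat.card (X.map (MulAut.conj (n : G)).toMonoidHom) :=
        (Nat.card_congr (X.equivMapOfInjective _ (MulAut.conj (n : G)).injective).toEquiv)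
    _ ≤ Nat.card A := Subgroup.card_le_of_le hXA
    _ ≤ Nat.card K := Subgroup.card_le_of_le hAK

/-- **LEMMA SYL**, abstract. -/
theorem card_le (hQ : centralizer (Q : Set G) ≤ Q) {R : Subgroup G} (hQR : Q ≤ R)
    (hC : ∀ K : Subgroup G, R ≤ K → K ≤ (S : Subgroup G) → (S : Subgroup G) ⊓ centralizer (zc K : Set G) ≤ K)
    {K : Subgroup G} (hRK : R ≤ K) (hKS : K ≤ (S : Subgroup G)) :
    ∀ X : Subgroup G, IsPGroup 2 X → X ≤ centralizer (zc K : Set G) → Nat.card X ≤ Nat.card K := by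
  have : Fact (Nat.Prime 2) := ⟨Nat.prime_two⟩
  induction hd : Nat.card (S : Subgroup G) - Nat.card K using Nat.strong_induction_on generalizing K with
  | _ d IH =>
    intro X hX hXc
    rcases eq_or_lt_of_le hKS with rfl | hlt
    · exact card_le_S S hX
    · -- the normaliser grows
      obtain ⟨t, htS, htK, htn⟩ := Involutions.BaerSuzuki.exists_mem_normalizer_of_lt (S.isPGroup') hlt
      set L : Subgroup G := (S : Subgroup G) ⊓ normalizer (K : Set G) with hLd
      have hKL : K ≤ L := le_inf hKS le_normalizer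
      have hcard : Nat.card K < Nat.card L := by
        by_contra h0
        push Not at h0
        have h1 : K = L := Subgroup.eq_of_le_of_card_ge hKL h0
        exact htK (h1 ▸ (⟨htS, htn⟩ : t ∈ L))
      have hLS : Nat.card L ≤ Nat.card (S : Subgroup G) := Subgroup.card_le_of_le inf_le_left
      have ih := IH (Nat.card (S : Subgroup G) - Nat.card L) (by omega) (K := L) (hRK.trans hKL) inf_le_left rfl
      -- `K` is a maximal 2-subgroup of `C_G(Z_K)`
      have hstep : ∀ Y : Subgroup G, IsPGroup 2 Y → Y ≤ centralizer (zc K : Set G) → Y ≤ normalizer (K : Set G) →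
          Nat.card Y ≤ Nat.card K := fun Y hY hYc hYn =>
        step S hQ (hQR.trans hRK) hKS (hC K hRK hKS) hLd ih hY hYc hYn
      set C : Subgroup G := centralizer (zc K : Set G) with hCd
      have hKC : K ≤ C := fun x hx => mem_centralizer_iff.2 fun z hz => ((mem_zc.1 hz).2.1 x hx).symm
      have hK2 : IsPGroup 2 K := S.isPGroup'.to_le hKS
      obtain ⟨T₁, hT₁⟩ := (hK2.comap_of_injective C.subtype C.subtype_injective).exists_le_sylow
      obtain ⟨T₂, hT₂⟩ := (hX.comap_of_injective C.subtype C.subtype_injective).exists_le_sylow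
      set Y : Subgroup G := (T₁ : Subgroup C).map C.subtype with hYd
      have hY2 : IsPGroup 2 Y := T₁.isPGroup'.map _
      have hKY : K ≤ Y := fun x hx => ⟨⟨x, hKC hx⟩, hT₁ hx, rfl⟩
      have hYC : Y ≤ C := by
        rintro _ ⟨x, -, rfl⟩
        exact x.2
      have hKYeq : K = Y := by
        by_contra hne
        obtain ⟨y, hyY, hyK, hyn⟩ := Involutions.BaerSuzuki.exists_mem_normalizer_of_lt hY2 (lt_of_le_of_ne hKY hne)
        have h1 := hstep (Y ⊓ normalizer (K : Set G)) (hY2.to_le inf_le_left) (inf_le_left.trans hYC) inf_le_right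
        have h2 : K = Y ⊓ normalizer (K : Set G) := Subgroup.eq_of_le_of_card_ge (le_inf hKY le_normalizer) h1
        exact hyK (h2 ▸ (⟨hyY, hyn⟩ : y ∈ Y ⊓ normalizer (K : Set G)))
      have h1 : Nat.card X ≤ Nat.card ((T₂ : Subgroup C).map C.subtype : Subgroup G) :=
        Subgroup.card_le_of_le fun x hx => ⟨⟨x, hXc hx⟩, hT₂ hx, rfl⟩
      have h2 : ∀ T : Sylow 2 C, Nat.card ((T : Subgroup C).map C.subtype : Subgroup G) = Nat.card (T : Subgroup C) := fun T =>
        (Nat.card_congr ((T : Subgroup C).equivMapOfInjective _ C.subtype_injective).toEquiv).symm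
      rw [h2, Nat.card_congr (T₂.equiv T₁).toEquiv, ← h2 T₁] at h1
      exact h1.trans (hKYeq ▸ le_rfl)

end SylAbs

end Cfsg.Agent.Omega.IId.SymWrD
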