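import Cfsg.Agent.Omega.IId.SymWrD.FOneAll

/-!
# II.d, `SwBig`, `SwCv`: (T) and F1 for all duads, `m ≥ 3` (bb OMEGA #17498): see `TThm`, `FOneAll` for all `m ≥ 2`
-/

set_option autoImplicit false

namespace Cfsg.Agent.Omega.IId.SymWrD

open Subgroup Pointwise Cfsg Cfsg.Agent.ZN Cfsg.Agent.Omega.MinPar Cfsg.Agent.Omega.FFThm
open Cfsg.Agent.Omega.Half.SymA (Pt E Mv pm Amb0)

universe u

variable {G : Type u} [Group G] [Finite G] {P V : Subgroup G} {k m : ℕ} {S : Sylow 2 G}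
  {M : SymK (S : Subgroup G) P V ⊥ k m}

/-- **(T)** for `m ≥ 3`. -/
theorem tt_big (h : Sit S P V M) (_h3 : 3 ≤ m) {μ ν : Equiv.Perm (Pt k m)} (F : Fours M μ ν) {x : Pt k m}
    (hx : x.2 ≠ 0) : TT h F x := tt h F hx

/-- (T) for all duads, `m ≥ 3` -/
theorem ttAll_big (h : Sit S P V M) (_h3 : 3 ≤ m) : TTAll h := ttAll h

/-- **F1** for all duads, `m ≥ 3` -/
theorem L_big {D : Subgroup G} (hD : SitD S P V D M) (_h3 : 3 ≤ m) {p q : Pt k m} (hpq : p.1 = q.1)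
    (hne : p ≠ q) : ∀ g ∈ o2 (centralizer ({pr M p q} : Set G)), g ∈ P ∧ (pp M g = 1 ∨ pp M g = Equiv.swap p q) :=
  L_dat hD hpq hne

end Cfsg.Agent.Omega.IId.SymWrD
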