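import Cfsg.Agent.Omega.IId.SwCv.Spl
import Cfsg.Agent.Omega.IId.SymWrD.Base
import Cfsg.Agent.PLocal.ElemAbSup

/-!
# II.d, `SwBig` and `SwCv`: the complement of `D = C_V(O²(P))` in `V_P`

* `exists_compl` : `V_P = V × D`, `V` normal in `P`, `P` centralises `D` (from helper123's `Spl.lean`);
* `compl` : `V` is the sum of `k` even-subset modules, `compl … : SymK S P V ⊥ k m`;
* `exists_sitD` : existence of the situation `SitD`.
-/

set_option autoImplicit false
set_option linter.unusedSectionVars false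

namespace Cfsg.Agent.Omega.IId.SymWrD

open Subgroup Pointwise Cfsg Cfsg.Agent.ZN Cfsg.Agent.Omega.FFThm Cfsg.Agent.Omega.S5.Def Cfsg.Agent.Omega.S5.Of
open Cfsg.Agent.Omega.MinPar
open Cfsg.Agent.ZN.ChoiceSit (Syl syl_not_dvd)
open Cfsg.Agent.Omega.FrameFF (cv)
open Cfsg.Agent.MinSimple.VModule
open Cfsg.Agent.Omega.Half.SymA (Pt E Mv pm Amb0)
open Cfsg.Agent.Omega.F4.Split (exists_inv sc sc_add smul_sc hat_single exists_sep cact dact trans_of_surj
  mem_sup_comm)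
open Cfsg.Agent.Omega.IId.SwCv.Spl

universe u

variable {G : Type u} [Group G] {k m : ℕ}

section compl

variable {T H V D A : Subgroup G}

/-- **The complement.** -/
theorem exists_compl [Finite G] (h : SymK T H (zl T H) (cv T H) k m) (hk : 0 < k) (hm : 1 ≤ m) (hT : Syl T H)
    (hc : H ⊓ centralizer (o2 H : Set G) ≤ o2 H) :
    (∀ g ∈ H, ∀ d ∈ cv T H, g * d = d * g) ∧ ∃ A : Subgroup G, A ≤ zl T H ∧ A ⊔ cv T H = zl T H ∧
      A ⊓ cv T H = ⊥ ∧ H ≤ normalizer (A : Set G) := by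
  classical
  have hTH := hT.1
  have hT2 := syl_not_dvd hT
  have hH := le_normalizer_zl T H
  have hVc := zl_comm hTH hT.2.1 hT2 hc
  have hV2 := zl_sq hTH hT.2.1 hT2 hc
  have hDV : cv T H ≤ zl T H := inf_le_left
  have hO : H ≤ normalizer (oddGen H : Set G) := le_normalizer_oddGen H
  have hDn : ∀ g ∈ H, ∀ d ∈ cv T H, g * d * g⁻¹ ∈ cv T H := by
    intro g hg d hd
    refine ⟨(mem_normalizer_iff.1 (hH hg) _).1 hd.1, mem_centralizer_iff.2 fun o ho => ?_⟩
    have h1 : g⁻¹ * o * g ∈ oddGen H := by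
      have := (mem_normalizer_iff.1 (hO (inv_mem hg)) o).1 ho
      rwa [inv_inv] at this
    have h2 := mem_centralizer_iff.1 hd.2 _ h1
    calc o * (g * d * g⁻¹) = g * ((g⁻¹ * o * g) * d) * g⁻¹ := by group
      _ = g * (d * (g⁻¹ * o * g)) * g⁻¹ := by rw [h2]
      _ = g * d * g⁻¹ * o := by group
  have hDN : H ≤ normalizer (cv T H : Set G) := by
    intro g hg
    rw [mem_normalizer_iff]
    refine fun d => ⟨hDn g hg d, fun hd => ?_⟩
    have h1 := hDn g⁻¹ (inv_mem hg) _ hd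
    have e : g⁻¹ * (g * d * g⁻¹) * g⁻¹⁻¹ = d := by group
    rwa [e] at h1
  obtain ⟨z, hz, i₀, hez⟩ := exists_z h hk hm hTH hT2 hDN
  obtain ⟨E, he1, he2, he3, he4, he5⟩ := exists_E' h hm hH hTH hT2 hVc hV2 (zc_le_zl T H hz)
    (fun t ht => (mem_zc.1 hz).2.1 t ht) hez
  have h0 : E 0 = 1 := he4 0 fun _ _ _ => rfl
  have hself : ∀ y : Fin k × Fin (2 ^ m + 1) → ZMod 2, y + y = 0 := fun y =>
    funext fun w => CharTwo.add_self_eq_zero (y w)
  have hinv : ∀ x, (E x)⁻¹ = E x := fun x => by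
    rw [inv_eq_iff_mul_eq_one, ← he2, hself, h0]
  let A : Subgroup G :=
    { carrier := Set.range E
      one_mem' := ⟨0, h0⟩
      mul_mem' := by
        rintro _ _ ⟨x, rfl⟩ ⟨y, rfl⟩
        exact ⟨x + y, he2 x y⟩
      inv_mem' := by
        rintro _ ⟨x, rfl⟩
        exact ⟨x, (hinv x).symm⟩ }
  have hA : ∀ x, E x ∈ A := fun x => ⟨x, rfl⟩
  have hAn : ∀ g ∈ H, ∀ a ∈ A, g * a * g⁻¹ ∈ A := by
    rintro g hg _ ⟨y, rfl⟩
    rw [he5 ⟨g, hg⟩ y]
    exact hA _
  have hAN : H ≤ normalizer (A : Set G) := by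
    intro g hg
    rw [mem_normalizer_iff]
    refine fun a => ⟨hAn g hg a, fun ha => ?_⟩
    have h1 := hAn g⁻¹ (inv_mem hg) _ ha
    have e : g⁻¹ * (g * a * g⁻¹) * g⁻¹⁻¹ = a := by group
    rwa [e] at h1
  -- the intersection with `D`
  have hinf : A ⊓ cv T H = ⊥ := by
    rw [eq_bot_iff]
    rintro _ ⟨⟨y, rfl⟩, hx⟩
    rw [mem_bot]
    have h1 := (h.ker _ (he1 y)).2 hx
    refine he4 y fun i x x' => ?_
    have h2 : ∀ x, y (i, x) = ∑ x', y (i, x') := by
      intro x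
      have h3 := he3 y i x
      rw [h1] at h3
      exact CharTwo.add_eq_zero.1 h3.symm
    rw [h2 x, h2 x']
  have hAV : A ≤ zl T H := by
    rintro _ ⟨x, rfl⟩
    exact he1 x
  have hsup : A ⊔ cv T H = zl T H := by
    refine le_antisymm (sup_le hAV hDV) fun v hv => ?_
    have h1 : (E fun w => h.e v w.1 w.2)⁻¹ * v ∈ cv T H := by
      rw [hinv, ← h.ker _ (mul_mem (he1 _) hv), h.mul _ (he1 _) v hv]
      funext i x
      rw [Pi.add_apply, Pi.add_apply, he3]
      simp only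
      rw [h.even v hv i, add_zero]
      exact CharTwo.add_self_eq_zero _
    have e : v = (E fun w => h.e v w.1 w.2) * ((E fun w => h.e v w.1 w.2)⁻¹ * v) := by group
    rw [e]
    exact mul_mem_sup (hA _) h1
  have hcomm : ∀ x ∈ A, ∀ y ∈ cv T H, x * y = y * x := fun x hx y hy => hVc x (hAV hx) y (hDV hy)
  -- `D` is centralised by `H`
  have hC : zc T ≤ A ⊔ (cv T H ⊓ centralizer (H : Set G)) := by
    intro v hv
    have hvV := zc_le_zl T H hv
    rw [← hsup] at hvV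
    obtain ⟨a, ha, d, hd, rfl⟩ := mem_sup_comm hcomm hvV
    refine mul_mem_sup ha ⟨hd, ?_⟩
    have h1 : T ≤ centralizer ({d} : Set G) := by
      intro t ht
      rw [mem_centralizer_singleton_iff]
      have h2 : t * (a * d) = a * d * t := (mem_zc.1 hv).2.1 t ht
      have h3 : t * a * t⁻¹ ∈ A := hAn t (hTH ht) a ha
      have h4 : t * d * t⁻¹ ∈ cv T H := hDn t (hTH ht) d hd
      have h5 : a⁻¹ * (t * a * t⁻¹) = d * (t * d * t⁻¹)⁻¹ := by
        have h6 : a * d = t * a * t⁻¹ * (t * d * t⁻¹) := by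
          calc a * d = t * (a * d) * t⁻¹ := by rw [h2, mul_inv_cancel_right]
            _ = _ := by group
        rw [inv_mul_eq_iff_eq_mul, ← mul_assoc, eq_mul_inv_iff_mul_eq]
        exact h6.symm
      have h6 : d * (t * d * t⁻¹)⁻¹ ∈ A ⊓ cv T H := by
        refine ⟨?_, (cv T H).mul_mem hd ((cv T H).inv_mem h4)⟩
        rw [← h5]
        exact A.mul_mem (A.inv_mem ha) h3
      rw [hinf, mem_bot, mul_inv_eq_one] at h6
      calc t * d = t * d * t⁻¹ * t := by group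
        _ = d * t := by rw [← h6]
    have h2 : oddGen H ≤ centralizer ({d} : Set G) := by
      intro o ho
      rw [mem_centralizer_singleton_iff]
      exact mem_centralizer_iff.1 hd.2 o ho
    have h3 : H ≤ centralizer ({d} : Set G) := by
      rw [← Cfsg.Agent.Omega.NO3b.EZero.oddGen_sup_syl hT]
      exact sup_le h2 h1
    exact mem_centralizer_iff.2 fun g hg => mem_centralizer_singleton_iff.1 (h3 hg)
  have hC2 : zl T H ≤ A ⊔ (cv T H ⊓ centralizer (H : Set G)) := by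
    refine zl_le hC ?_
    intro g hg
    rw [mem_normalizer_iff_map_conj_eq, Subgroup.map_sup]
    congr 1
    · exact mem_normalizer_iff_map_conj_eq.1 (hAN hg)
    · refine mem_normalizer_iff_map_conj_eq.1 ?_
      refine (centralizer_le_normalizer _) (mem_centralizer_iff.2 fun d hd => ?_)
      exact (mem_centralizer_iff.1 hd.2 g hg).symm
  refine ⟨?_, A, hAV, hsup, hinf, hAN⟩
  intro g hg d hd
  obtain ⟨a, ha, d', hd', rfl⟩ := mem_sup_comm
    (fun x hx y (hy : y ∈ cv T H ⊓ centralizer (H : Set G)) => hcomm x hx y (mem_inf.1 hy).1) (hC2 (hDV hd))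
  have h1 : a ∈ A ⊓ cv T H := by
    refine ⟨ha, ?_⟩
    have := mul_mem hd (inv_mem hd'.1)
    rwa [mul_inv_cancel_right] at this
  rw [hinf, mem_bot] at h1
  rw [h1, one_mul]
  exact mem_centralizer_iff.1 hd'.2 g hg

theorem off_of (hVc : ∀ x ∈ V, ∀ y ∈ V, x * y = y * x) (hsup : A ⊔ D = V) (hinf : A ⊓ D = ⊥)
    {B : Subgroup G} (hD : ∀ g ∈ B, ∀ d ∈ D, g * d = d * g) (h : Off A B) : Off V B := by
  have hAV : A ≤ V := hsup ▸ le_sup_left
  have hDV : D ≤ V := hsup ▸ le_sup_right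
  have hcomm : ∀ x ∈ A, ∀ y ∈ D, x * y = y * x := fun x hx y hy => hVc x (hAV hx) y (hDV hy)
  have hc1 : B ⊓ centralizer (V : Set G) = B ⊓ centralizer (A : Set G) := by
    refine le_antisymm (inf_le_inf_left _ (centralizer_le hAV)) fun b hb => ⟨hb.1, mem_centralizer_iff.2 ?_⟩
    intro v hv
    rw [← hsup] at hv
    obtain ⟨a, ha, d, hd, rfl⟩ := mem_sup_comm hcomm hv
    have h1 := mem_centralizer_iff.1 hb.2 a ha
    have h2 := hD b hb.1 d hd
    rw [mul_assoc, ← h2, ← mul_assoc, h1, mul_assoc]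
  have hc2 : V ⊓ centralizer (B : Set G) = (A ⊓ centralizer (B : Set G)) ⊔ D := by
    apply le_antisymm
    · rintro v ⟨hv, hvB⟩
      rw [SetLike.mem_coe, ← hsup] at hv
      obtain ⟨a, ha, d, hd, rfl⟩ := mem_sup_comm hcomm hv
      refine mul_mem_sup ⟨ha, mem_centralizer_iff.2 fun b hb => ?_⟩ hd
      have h1 := mem_centralizer_iff.1 hvB b hb
      have h2 := hD b hb d hd
      have h3 : b * a * d = a * b * d := by
        rw [mul_assoc, h1, mul_assoc a b d, h2, ← mul_assoc]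
      exact mul_right_cancel h3
    · refine sup_le (le_inf (inf_le_left.trans hAV) inf_le_right) (le_inf hDV fun d hd => ?_)
      exact mem_centralizer_iff.2 fun b hb => hD b hb d hd
  have hcard : ∀ A' : Subgroup G, A' ≤ A → Nat.card ↥(A' ⊔ D) = Nat.card A' * Nat.card D := by
    intro A' hA'
    have h1 := Cfsg.Agent.PLocal.ElemAbSup.card_sup_mul_card_inf (A := A') (B := D) fun d hd =>
      mem_centralizer_iff.2 fun a ha => hcomm a (hA' ha) d hd
    have h2 : A' ⊓ D = ⊥ := eq_bot_iff.2 ((inf_le_inf_right D hA').trans hinf.le)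
    rw [h2, card_bot, mul_one] at h1
    exact h1
  refine ⟨h.elem, fun h1 => h.ne (h1.trans (centralizer_le hAV)), ?_⟩
  rw [hc1, hc2, hcard _ inf_le_left, ← hsup, hcard A le_rfl]
  calc Nat.card A * Nat.card D * Nat.card ↥(B ⊓ centralizer (A : Set G))
      = Nat.card A * Nat.card ↥(B ⊓ centralizer (A : Set G)) * Nat.card D := by ring
    _ ≤ Nat.card B * Nat.card ↥(A ⊓ centralizer (B : Set G)) * Nat.card D := Nat.mul_le_mul_right _ h.le
    _ = _ := by ring

theorem acts_iff (h : SymK T H V D k m) (hVc : ∀ x ∈ V, ∀ y ∈ V, x * y = y * x) (hsup : A ⊔ D = V)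
    (hHA : H ≤ normalizer (A : Set G)) (hHD : ∀ g ∈ H, ∀ d ∈ D, g * d = d * g) {g : G} (hg : g ∈ H)
    {σ : Equiv.Perm (Fin k)} {τ : Fin k → Equiv.Perm (Fin (2 ^ m + 1))} :
    ActsSym h.e A g σ τ ↔ ActsSym h.e V g σ τ := by
  have hAV : A ≤ V := hsup ▸ le_sup_left
  have hDV : D ≤ V := hsup ▸ le_sup_right
  refine ⟨fun h1 v hv i x => ?_, fun h1 v hv i x => h1 v (hAV hv) i x⟩
  rw [← hsup] at hv
  obtain ⟨a, ha, d, hd, rfl⟩ := mem_sup_comm (fun x hx y hy => hVc x (hAV hx) y (hDV hy)) hv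
  have hga : g * a * g⁻¹ ∈ A := (mem_normalizer_iff.1 (hHA hg) a).1 ha
  have e1 : g * (a * d) * g⁻¹ = g * a * g⁻¹ * d := by
    have h2 : g * d * g⁻¹ = d := by rw [hHD g hg d hd, mul_inv_cancel_right]
    calc g * (a * d) * g⁻¹ = g * a * g⁻¹ * (g * d * g⁻¹) := by group
      _ = _ := by rw [h2]
  have hd0 : h.e d = 0 := (h.ker d (hDV hd)).2 hd
  rw [e1, h.mul _ (hAV hga) _ (hDV hd), h.mul _ (hAV ha) _ (hDV hd), hd0, add_zero, add_zero]
  exact h1 a ha i x

/-- the complement as a sum of even-subset modules -/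
def compl (h : SymK T H V D k m) (hTH : T ≤ H) (hVc : ∀ x ∈ V, ∀ y ∈ V, x * y = y * x) (hsup : A ⊔ D = V)
    (hinf : A ⊓ D = ⊥) (hHA : H ≤ normalizer (A : Set G)) (hHD : ∀ g ∈ H, ∀ d ∈ D, g * d = d * g) :
    SymK T H A ⊥ k m where
  e := h.e
  mul v hv w hw := h.mul v (hsup ▸ mem_sup_left hv) w (hsup ▸ mem_sup_left hw)
  even v hv := h.even v (hsup ▸ mem_sup_left hv)
  surj y hy := by
    have hAV : A ≤ V := hsup ▸ le_sup_left
    have hDV : D ≤ V := hsup ▸ le_sup_right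
    obtain ⟨v, hv, rfl⟩ := h.surj y hy
    rw [← hsup] at hv
    obtain ⟨a, ha, d, hd, rfl⟩ := mem_sup_comm (fun x hx y hy => hVc x (hAV hx) y (hDV hy)) hv
    exact ⟨a, ha, by rw [h.mul _ (hAV ha) _ (hDV hd), (h.ker d (hDV hd)).2 hd, add_zero]⟩
  ker v hv := by
    rw [h.ker v (hsup ▸ mem_sup_left hv), mem_bot]
    refine ⟨fun h1 => mem_bot.1 (hinf.le ⟨hv, h1⟩), fun h1 => ?_⟩
    rw [h1]
    exact one_mem D
  lift τ := by
    obtain ⟨g, hg, h1, -⟩ := h.lift τ
    refine ⟨g, hg, (acts_iff h hVc hsup hHA hHD hg).2 h1, fun d hd => ?_⟩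
    rw [mem_bot.1 hd, mul_one, one_mul]
  perm g hg := by
    obtain ⟨σ, τ, h1⟩ := h.perm g hg
    exact ⟨σ, τ, (acts_iff h hVc hsup hHA hHD hg).2 h1⟩
  trans i j := by
    obtain ⟨t, ht, σ, τ, h1, h2⟩ := h.trans i j
    exact ⟨t, ht, σ, τ, (acts_iff h hVc hsup hHA hHD (hTH ht)).2 h1, h2⟩
  fix0 t ht σ τ h1 := h.fix0 t ht σ τ ((acts_iff h hVc hsup hHA hHD (hTH ht)).1 h1)
  gen K hK h1 := h.gen K hK fun x hx τ hτ _ => h1 x hx τ ((acts_iff h hVc hsup hHA hHD hx).2 hτ) fun d hd => by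
    rw [mem_bot.1 hd, mul_one, one_mul]
  off B hB h1 := by
    obtain ⟨-, h2⟩ := h.off B hB (off_of hVc hsup hinf (fun g hg => hHD g (hTH (hB hg))) h1)
    refine ⟨fun a _ d hd => by rw [mem_bot.1 hd, mul_one, one_mul], fun a ha => ?_⟩
    obtain ⟨τ, h3, h4⟩ := h2 a ha
    refine ⟨τ, (acts_iff h hVc hsup hHA hHD (hTH (hB ha))).2 h3, fun i x hx => ?_⟩
    obtain ⟨h5, b, hb, h6⟩ := h4 i x hx
    exact ⟨h5, b, hb, (acts_iff h hVc hsup hHA hHD (hTH (hB hb))).2 h6⟩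

end compl

/-! ### The situation -/

/-- **Existence of the situation.** -/
theorem exists_sitD [Finite G] (hG : IsCharacteristicTwoType G) {S : Sylow 2 G} {P : Subgroup G}
    (hP : IsParS (S : Subgroup G) P) (h : SymK (S : Subgroup G) P (zl (S : Subgroup G) P) (cv (S : Subgroup G) P) k m)
    (hk : 0 < k) (hm : 2 ≤ m) : ∃ (V : Subgroup G) (M : SymK (S : Subgroup G) P V ⊥ k m),
      SitD S P V (cv (S : Subgroup G) P) M ∧ V ⊔ cv (S : Subgroup G) P = zl (S : Subgroup G) P ∧ M.e = h.e := by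
  have hloc := hP.isLoc
  have hT : Syl (S : Subgroup G) P := ⟨hloc.le, S.isPGroup', fun Q _ hQ hle => S.is_maximal' hQ hle⟩
  obtain ⟨hHD, A, hAV, hsup, hinf, hAN⟩ := exists_compl h hk ((by norm_num : 1 ≤ 2).trans hm) hT (hloc.char2 S hG)
  have hamb := Half.amb_of_loc hG S hloc
  have hDV : cv (S : Subgroup G) P ≤ zl (S : Subgroup G) P := inf_le_left
  refine ⟨A, compl h hloc.le hamb.comm hsup hinf hAN hHD, ⟨⟨⟨hloc.le, hAV.trans hamb.VT, hAN,
    fun a ha b hb => hamb.comm a (hAV ha) b (hAV hb), fun a ha => hamb.sq a (hAV ha)⟩, hm, hk,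
    hAV.trans (hloc.zl_le S hG), ?_, ?_, ?_⟩, hDV.trans (hloc.zl_le S hG), hHD, hinf,
    hamb.zc.trans hsup.ge⟩, hsup, rfl⟩
  · rw [← hP.inf_centralizer S hG, ← hsup]
    refine le_antisymm (inf_le_inf_left _ (centralizer_le (SetLike.coe_subset_coe.2 le_sup_left))) fun s hs =>
      ⟨hs.1, mem_centralizer_iff.2 ?_⟩
    intro v hv
    obtain ⟨a, ha, d, hd, rfl⟩ := mem_sup_comm (fun x hx y hy => hamb.comm x (hAV hx) y (hDV hy)) hv
    have h1 := mem_centralizer_iff.1 hs.2 a ha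
    have h2 := hHD s (hloc.le hs.1) d hd
    rw [mul_assoc, ← h2, ← mul_assoc, h1, mul_assoc]
  · have h1 := MinSimple.Basic.char2_normalizer hG (o2_isPGroup P) hP.o2_ne
    have h2 : o2 (normalizer (o2 P : Set G)) ≤ o2 P := o2_le_o2 S hP.le (le_normalizer_o2 P)
    have h3 : centralizer (o2 P : Set G) ≤ normalizer (o2 P : Set G) := centralizer_le_normalizer _
    exact (le_inf h3 (centralizer_le h2)).trans (h1.trans h2)
  · refine le_trans ?_ (LFour.le_centralizer_zc_o2 hG S hP)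
    rintro g ⟨hgP, hg⟩
    refine ⟨hgP, mem_centralizer_iff.2 fun v hv => ?_⟩
    rw [← hsup] at hv
    obtain ⟨a, ha, d, hd, rfl⟩ := mem_sup_comm (fun x hx y hy => hamb.comm x (hAV hx) y (hDV hy)) hv
    have h1 := mem_centralizer_iff.1 hg a ha
    have h2 := hHD g hgP d hd
    rw [mul_assoc, ← h2, ← mul_assoc, h1, mul_assoc]

end Cfsg.Agent.Omega.IId.SymWrD
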